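import Cfsg.Agent.Lib.Helper8.Ree.CI

/-! REE ladder, rung AR (helper67). -/

set_option autoImplicit false

namespace Cfsg.Agent.Lib.Helper8

open Cfsg.Agent.Lib.Helper46 Matrix

/-! auxiliary arithmetic -/

theorem ar_Q_add {q : ℕ} (hq : 1 ≤ q) : (q ^ 2 - q + 1) + q = q ^ 2 + 1 := by
  have : q ≤ q ^ 2 := by nlinarith
  omega

theorem ar_Q_mod2 {q : ℕ} (hq : 1 ≤ q) : (q ^ 2 - q + 1) % 2 = 1 := by
  have h := ar_Q_add hq
  have h2 : q ^ 2 % 2 = q % 2 := by
    rw [Nat.pow_mod]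
    rcases Nat.mod_two_eq_zero_or_one q with h | h <;> rw [h]
  omega

theorem ar_Q_mod3 {q : ℕ} (hq : 1 ≤ q) (h3 : q % 3 = 0) : (q ^ 2 - q + 1) % 3 = 1 := by
  have h := ar_Q_add hq
  have h2 : q ^ 2 % 3 = 0 := by rw [Nat.pow_mod, h3]
  omega

theorem ar_Q_mod5 {q : ℕ} (hq : 1 ≤ q) (h5 : q % 5 = 2 ∨ q % 5 = 3) : (q ^ 2 - q + 1) % 5 ≠ 0 := by
  have h := ar_Q_add hq
  rcases h5 with h5 | h5
  · have h2 : q ^ 2 % 5 = 4 := by rw [Nat.pow_mod, h5]
    omega
  · have h2 : q ^ 2 % 5 = 4 := by rw [Nat.pow_mod, h5]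
    omega

theorem ar_cube {q : ℕ} (hq : 1 ≤ q) : q ^ 3 + 1 = (q + 1) * (q ^ 2 - q + 1) := by
  have h := ar_Q_add hq
  set Q := q ^ 2 - q + 1 with hQ
  have : (q + 1) * (Q + q) = (q + 1) * (q ^ 2 + 1) := by rw [h]
  nlinarith

theorem ar_ord {q p : ℕ} (hq : 1 ≤ q) (h3 : q % 3 = 0) (hp : p.Prime) (h : p ∣ q ^ 2 - q + 1) :
    (∀ d, 1 ≤ d → d ≤ 7 → p ∣ q ^ d - 1 → d = 6) ∧ p ∣ q ^ 6 - 1 := by
  haveI : Fact p.Prime := ⟨hp⟩
  have hadd := ar_Q_add hq
  have hp2 : p ≠ 2 := by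
    rintro rfl
    have := ar_Q_mod2 hq
    omega
  have hp3 : p ≠ 3 := by
    rintro rfl
    have := ar_Q_mod3 hq h3
    omega
  have hz : ((q : ZMod p)) ^ 2 = q - 1 := by
    have h1 : ((q ^ 2 - q + 1 : ℕ) : ZMod p) = 0 := (ZMod.natCast_eq_zero_iff _ _).mpr h
    have h2 := congrArg (fun n : ℕ => (n : ZMod p)) hadd
    push_cast at h2
    rw [Nat.cast_add, Nat.cast_one] at h1
    have h4 : ((q ^ 2 - q : ℕ) : ZMod p) + 1 + q = q ^ 2 + 1 := h2
    linear_combination (-1 : ZMod p) * h4 + h1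
  have h2ne : (2 : ZMod p) ≠ 0 := by
    intro h0
    have : ((2 : ℕ) : ZMod p) = 0 := by exact_mod_cast h0
    rw [ZMod.natCast_eq_zero_iff] at this
    exact hp2 ((Nat.prime_dvd_prime_iff_eq hp Nat.prime_two).mp this)
  have h3ne : (3 : ZMod p) ≠ 0 := by
    intro h0
    have : ((3 : ℕ) : ZMod p) = 0 := by exact_mod_cast h0
    rw [ZMod.natCast_eq_zero_iff] at this
    exact hp3 ((Nat.prime_dvd_prime_iff_eq hp Nat.prime_three).mp this)
  have h1ne : (1 : ZMod p) ≠ 0 := one_ne_zero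
  have key : ∀ d, p ∣ q ^ d - 1 ↔ (q : ZMod p) ^ d = 1 := by
    intro d
    have h1 : 1 ≤ q ^ d := Nat.one_le_pow _ _ hq
    rw [← ZMod.natCast_eq_zero_iff, Nat.cast_sub h1, sub_eq_zero]
    push_cast
    rfl
  set x : ZMod p := (q : ZMod p) with hx
  have hx3 : x ^ 3 = -1 := by
    calc x ^ 3 = x * x ^ 2 := by ring
      _ = x * (x - 1) := by rw [hz]
      _ = x ^ 2 - x := by ring
      _ = -1 := by rw [hz]; ring
  constructor
  · intro d h1 h7 hd
    rw [key] at hd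
    interval_cases d
    · exfalso
      rw [pow_one] at hd
      rw [hd] at hz
      apply h1ne
      linear_combination hz
    · exfalso
      -- x^2 = 1, x = 2, 4 = 1
      have hx2 : x = 2 := by linear_combination hd - hz
      rw [hx2] at hd
      apply h3ne
      linear_combination hd
    · exfalso
      apply h2ne
      linear_combination hx3 - hd
    · exfalso
      have hx1 : x = -1 := by
        have : x ^ 4 = x * x ^ 3 := by ring
        rw [this, hx3] at hd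
        linear_combination (-1 : ZMod p) * hd
      rw [hx1] at hz
      apply h3ne
      linear_combination hz
    · exfalso
      have h5 : x ^ 5 = x ^ 2 * x ^ 3 := by ring
      rw [h5, hx3, hz] at hd
      have hx0 : x = 0 := by linear_combination (-1 : ZMod p) * hd
      rw [hx0] at hz
      apply h1ne
      linear_combination hz
    · rfl
    · exfalso
      have h7' : x ^ 7 = x * (x ^ 3) ^ 2 := by ring
      rw [h7', hx3] at hd
      have hx1 : x = 1 := by linear_combination hd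
      rw [hx1] at hz
      apply h1ne
      linear_combination hz
  · rw [key]
    calc x ^ 6 = (x ^ 3) ^ 2 := by ring
      _ = 1 := by rw [hx3]; ring

theorem ar_coprime_pi {q : ℕ} (hq : 2 ≤ q) (h3 : q % 3 = 0) :
    Nat.Coprime (q ^ 2 - q + 1) (q ^ 3 * (q - 1) * (q + 1)) := by
  apply Nat.coprime_of_dvd
  intro p hp h1 h2
  have hq1 : 1 ≤ q := by omega
  have hadd := ar_Q_add hq1
  obtain ⟨ho, -⟩ := ar_ord hq1 h3 hp h1
  rcases (Nat.Prime.dvd_mul hp).mp h2 with h | h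
  · rcases (Nat.Prime.dvd_mul hp).mp h with h | h
    · have hpq : p ∣ q := hp.dvd_of_dvd_pow h
      have h4 : p ∣ q ^ 2 + 1 := by rw [← hadd]; exact dvd_add h1 hpq
      have h5 : p ∣ 1 := (Nat.dvd_add_right (Dvd.dvd.pow hpq (by norm_num))).mp h4
      exact hp.one_lt.ne' (Nat.dvd_one.mp h5)
    · have := ho 1 le_rfl (by norm_num) (by rw [pow_one]; exact h)
      omega
  · -- p ∣ q + 1 so p ∣ q^2 - 1
    have h4 : p ∣ q ^ 2 - 1 := by
      have : q ^ 2 - 1 = (q + 1) * (q - 1) := by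
        obtain ⟨k, rfl⟩ : ∃ k, q = k + 1 := ⟨q - 1, by omega⟩
        simp only [Nat.add_sub_cancel]
        have : (k + 1) ^ 2 = (k + 1 + 1) * k + 1 := by ring
        omega
      rw [this]
      exact Dvd.dvd.mul_right h _
    have := ho 2 (by norm_num) (by norm_num) h4
    omega

namespace ReeFull

variable {G : Type*} [Group G] {K : Type*} [Field K] (D : ReeFull G K)

theorem ar_q_eq : D.q = 3 * 9 ^ D.m := by
  unfold q
  rw [pow_succ, pow_mul]
  norm_num [mul_comm]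

/-! ### rung AR (arithmetic of q = 3^(2m+1), r = 3^(m+1), m ≥ 1) -/
theorem q_mod_eight : D.q % 8 = 3 := by
  rw [ar_q_eq, Nat.mul_mod, Nat.pow_mod]
  norm_num

theorem q_ge : 27 ≤ D.q := by
  unfold q
  calc 27 = 3 ^ 3 := by norm_num
    _ ≤ 3 ^ (2 * D.m + 1) := Nat.pow_le_pow_right (by norm_num) (by have := D.hm; omega)

theorem three_dvd_q : 3 ∣ D.q := by
  unfold q
  exact dvd_pow_self 3 (by omega)

theorem r_sq : D.r ^ 2 = 3 * D.q := by
  unfold r q
  rw [← pow_mul, ← pow_succ']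
  congr 1
  ring

theorem r_lt_q : D.r < D.q := by
  unfold r q
  exact Nat.pow_lt_pow_right (by norm_num) (by have := D.hm; omega)

theorem prod_pm : (D.q + D.r + 1) * (D.q - D.r + 1) = D.q ^ 2 - D.q + 1 := by
  have h1 := D.r_sq
  have h2 := D.r_lt_q
  have h3 := ar_Q_add (q := D.q) (by have := D.q_ge; omega)
  obtain ⟨k, hk⟩ : ∃ k, D.q = D.r + k := ⟨D.q - D.r, by omega⟩
  have h4 : D.q - D.r = k := by omega
  rw [h4]
  have h5 : (D.q + D.r + 1) * (k + 1) + D.q = D.q ^ 2 + 1 := by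
    rw [hk] at h1 ⊢
    nlinarith
  omega

theorem ar_q_mod3 : D.q % 3 = 0 := Nat.mod_eq_zero_of_dvd D.three_dvd_q

theorem ar_q_mod5 : D.q % 5 = 2 ∨ D.q % 5 = 3 := by
  rw [ar_q_eq]
  have : ∀ m : ℕ, 9 ^ m % 5 = 1 ∨ 9 ^ m % 5 = 4 := by
    intro m
    induction m with
    | zero => left; norm_num
    | succ m ih =>
      rw [pow_succ]
      rcases ih with h | h <;> omega
  rcases this D.m with h | h <;> omega

theorem ar_r_mod : D.r % 2 = 1 ∧ D.r % 3 = 0 := by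
  unfold r
  constructor
  · rw [Nat.pow_mod]; norm_num
  · exact Nat.mod_eq_zero_of_dvd (dvd_pow_self 3 (by omega))

theorem coprime_pm : Nat.Coprime (D.q + D.r + 1) (D.q - D.r + 1) := by
  apply Nat.coprime_of_dvd
  intro p hp h1 h2
  have hlt := D.r_lt_q
  have h3 : p ∣ 2 * D.r := by
    have : D.q + D.r + 1 = (D.q - D.r + 1) + 2 * D.r := by omega
    rw [this] at h1
    exact (Nat.dvd_add_right h2).mp h1
  have h8 := D.q_mod_eight
  have h30 := D.ar_q_mod3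
  obtain ⟨hr2, hr3⟩ := D.ar_r_mod
  rcases (Nat.Prime.dvd_mul hp).mp h3 with h | h
  · have : p = 2 := (Nat.prime_dvd_prime_iff_eq hp Nat.prime_two).mp h
    subst this
    omega
  · have h4 : p ∣ 3 := by
      unfold r at h
      exact hp.dvd_of_dvd_pow h
    have : p = 3 := (Nat.prime_dvd_prime_iff_eq hp Nat.prime_three).mp h4
    subst this
    omega

theorem ord_six {p : ℕ} (hp : p.Prime) (h : p ∣ D.q ^ 2 - D.q + 1) :
    (∀ d, 1 ≤ d → d ≤ 7 → p ∣ D.q ^ d - 1 → d = 6) ∧ p ∣ D.q ^ 6 - 1 :=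
  ar_ord (by have := D.q_ge; omega) D.ar_q_mod3 hp h

theorem coprime_pi : Nat.Coprime (D.q ^ 2 - D.q + 1) (D.q ^ 3 * (D.q - 1) * (D.q + 1)) :=
  ar_coprime_pi (by have := D.q_ge; omega) D.ar_q_mod3

theorem coprime_plus : Nat.Coprime ((D.q + 1) / 4) (2 * D.q ^ 3 * (D.q - 1) * (D.q ^ 2 - D.q + 1)) := by
  apply Nat.coprime_of_dvd
  intro p hp h1 h2
  have h8 := D.q_mod_eight
  have hge := D.q_ge
  obtain ⟨c, hc⟩ := h1
  have hq1 : D.q + 1 = 4 * (p * c) := by omega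
  have hpq : p ∣ D.q + 1 := ⟨4 * c, by rw [hq1]; ring⟩
  have hp2 : p ≠ 2 := by
    rintro rfl
    omega
  have hp2' : ¬ p ∣ 2 := fun h => hp2 ((Nat.prime_dvd_prime_iff_eq hp Nat.prime_two).mp h)
  rcases (Nat.Prime.dvd_mul hp).mp h2 with h | h
  · rcases (Nat.Prime.dvd_mul hp).mp h with h | h
    · rcases (Nat.Prime.dvd_mul hp).mp h with h | h
      · exact hp2' h
      · have hpq' : p ∣ D.q := hp.dvd_of_dvd_pow h
        have : p ∣ 1 := (Nat.dvd_add_right hpq').mp hpq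
        exact hp.one_lt.ne' (Nat.dvd_one.mp this)
    · apply hp2'
      have : D.q + 1 = (D.q - 1) + 2 := by omega
      rw [this] at hpq
      exact (Nat.dvd_add_right h).mp hpq
  · have hcop := D.coprime_pi
    have h5 : p ∣ D.q ^ 3 * (D.q - 1) * (D.q + 1) := Dvd.dvd.mul_left hpq _
    exact hp.one_lt.ne' (Nat.eq_one_of_dvd_coprimes hcop h h5)

theorem coprime_minus : Nat.Coprime ((D.q - 1) / 2) (2 * D.q ^ 3 * (D.q + 1) * (D.q ^ 2 - D.q + 1)) := by
  apply Nat.coprime_of_dvd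
  intro p hp h1 h2
  have h8 := D.q_mod_eight
  have hge := D.q_ge
  obtain ⟨c, hc⟩ := h1
  have hq1 : D.q - 1 = 2 * (p * c) := by omega
  have hpq : p ∣ D.q - 1 := ⟨2 * c, by rw [hq1]; ring⟩
  have hp2 : p ≠ 2 := by
    rintro rfl
    omega
  have hp2' : ¬ p ∣ 2 := fun h => hp2 ((Nat.prime_dvd_prime_iff_eq hp Nat.prime_two).mp h)
  rcases (Nat.Prime.dvd_mul hp).mp h2 with h | h
  · rcases (Nat.Prime.dvd_mul hp).mp h with h | h
    · rcases (Nat.Prime.dvd_mul hp).mp h with h | h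
      · exact hp2' h
      · have hpq' : p ∣ D.q := hp.dvd_of_dvd_pow h
        have h6 : D.q = (D.q - 1) + 1 := by omega
        rw [h6] at hpq'
        have : p ∣ 1 := (Nat.dvd_add_right hpq).mp hpq'
        exact hp.one_lt.ne' (Nat.dvd_one.mp this)
    · apply hp2'
      have : D.q + 1 = (D.q - 1) + 2 := by omega
      rw [this] at h
      exact (Nat.dvd_add_right hpq).mp h
  · have hcop := D.coprime_pi
    have h5 : p ∣ D.q ^ 3 * (D.q - 1) * (D.q + 1) :=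
      Dvd.dvd.mul_right (Dvd.dvd.mul_left hpq _) _
    exact hp.one_lt.ne' (Nat.eq_one_of_dvd_coprimes hcop h h5)

theorem seven_le_of_dvd {a : ℕ} (ha : a ∣ D.q ^ 2 - D.q + 1) (h1 : a ≠ 1) : 7 ≤ a := by
  have hq1 : 1 ≤ D.q := by have := D.q_ge; omega
  have m2 := ar_Q_mod2 hq1
  have m3 := ar_Q_mod3 hq1 D.ar_q_mod3
  have m5 := ar_Q_mod5 hq1 D.ar_q_mod5
  obtain ⟨c, hc⟩ := ha
  by_contra hlt
  push Not at hlt
  interval_cases a <;> omega

theorem card_G_eq : Nat.card G = 8 * (D.q ^ 3 * ((D.q - 1) / 2) * ((D.q + 1) / 4) * (D.q ^ 2 - D.q + 1)) := by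
  rw [D.card_G, ar_cube (q := D.q) (by have := D.q_ge; omega)]
  have h8 := D.q_mod_eight
  have hge := D.q_ge
  have e1 : D.q - 1 = 2 * ((D.q - 1) / 2) := by omega
  have e2 : D.q + 1 = 4 * ((D.q + 1) / 4) := by omega
  set A := (D.q - 1) / 2
  set B := (D.q + 1) / 4
  rw [e1, e2]
  ring

theorem odd_part : Odd (D.q ^ 3 * ((D.q - 1) / 2) * ((D.q + 1) / 4) * (D.q ^ 2 - D.q + 1)) := by
  have h8 := D.q_mod_eight
  have hge := D.q_ge
  have o1 : Odd D.q := Nat.odd_iff.mpr (by omega)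
  have o2 : Odd ((D.q - 1) / 2) := Nat.odd_iff.mpr (by omega)
  have o3 : Odd ((D.q + 1) / 4) := Nat.odd_iff.mpr (by omega)
  have o4 : Odd (D.q ^ 2 - D.q + 1) := Nat.odd_iff.mpr (ar_Q_mod2 (by omega))
  exact ((o1.pow.mul o2).mul o3).mul o4

end ReeFull

end Cfsg.Agent.Lib.Helper8
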