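import Cfsg.Agent.Lib.Helper8.ReeLad2
import Cfsg.Agent.Lib.Helper91.ReePK1
import Cfsg.Agent.Lib.Helper91.ReePK2
import Cfsg.Agent.Lib.Helper91.ReePK3
import Cfsg.Agent.Lib.Helper91.ReePK4
import Cfsg.Agent.Lib.Helper42.ReeTR
import Cfsg.Agent.Lib.Helper42.ReeCM
import Cfsg.Agent.Lib.Helper67.ReeL7

/-! Base of the chain of REE rung files (imports only). -/
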