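import Cfsg.Agent.Lib.Helper8.Ree.UA

/-! REE ladder, rung C1 (helper36). -/

set_option autoImplicit false

namespace Cfsg.Agent.Lib.Helper8

open Cfsg.Agent.Lib.Helper46 Matrix

namespace ReeFull

variable {G : Type*} [Group G] {K : Type*} [Field K] (D : ReeFull G K)

theorem card_XU_Us : (XU D.Us).ncard = (D.q ^ 3 + 1) * (D.q ^ 3 - 1) := by
  have := D.finite_G
  have h := card_conj_union D.Us (by
    intro t ht h1 x hx
    rw [D.normalizer_Us_eq]
    exact D.mem_Bs_of_conj ht h1 (D.Us_le_Bs hx))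
  rw [D.normalizer_Us_eq, D.card_Bs, D.card_G, D.card_Us] at h
  have hq := D.q_ge
  have hpos : 0 < D.q ^ 3 * (D.q - 1) := by
    apply Nat.mul_pos (by positivity)
    omega
  apply Nat.eq_of_mul_eq_mul_right hpos
  rw [h]
  ring

end ReeFull

end Cfsg.Agent.Lib.Helper8
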