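import Cfsg.Agent.Lib.Helper8.Ree.C1

/-! REE ladder, rung C2 (helper36). -/

set_option autoImplicit false

namespace Cfsg.Agent.Lib.Helper8

open Cfsg.Agent.Lib.Helper46 Matrix

theorem c2_conj_sq {G : Type*} [Group G] (x t : G) :
    (x * t * x⁻¹) * (x * t * x⁻¹) ≠ 1 ↔ t * t ≠ 1 := by
  have e : (x * t * x⁻¹) * (x * t * x⁻¹) = x * (t * t) * x⁻¹ := by group
  rw [e, Ne, Ne, conj_eq_one_iff]

namespace ReeFull

variable {G : Type*} [Group G] {K : Type*} [Field K] (D : ReeFull G K)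

theorem c2_card_Hs_nsq : {t | t ∈ D.Hs ∧ t * t ≠ 1}.ncard = D.q - 3 := by
  have := D.finite_G
  have hset : {t | t ∈ D.Hs ∧ t * t ≠ 1} = (D.Hs : Set G) \ {1, D.j} := by
    ext t
    constructor
    · rintro ⟨h1, h2⟩
      refine ⟨h1, ?_⟩
      rintro (rfl | rfl)
      · exact h2 (one_mul 1)
      · exact h2 D.j_sq
    · rintro ⟨h1, h2⟩
      refine ⟨h1, fun h => h2 ?_⟩
      rcases D.Hs_sq h1 h with rfl | rfl
      · left; rfl
      · right; rfl
  have hsub : ({1, D.j} : Set G) ⊆ (D.Hs : Set G) := by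
    rintro _ (rfl | rfl)
    · exact one_mem _
    · exact ⟨-1, rfl⟩
  rw [hset, Set.ncard_sdiff hsub (Set.toFinite _), Set.ncard_pair (Ne.symm D.j_ne_one)]
  have : (D.Hs : Set G).ncard = D.q - 1 := by
    rw [← D.card_Hs]; rfl
  rw [this]
  omega

theorem card_XP_Hs : 2 * (XP D.Hs (fun t => t * t ≠ 1)).ncard = D.q ^ 3 * (D.q ^ 3 + 1) * (D.q - 3) := by
  have := D.finite_G
  have h := card_XP D.Hs (fun t => t * t ≠ 1) (fun x t => c2_conj_sq x t)
    (fun t ht h2 x hx => D.Hs_TI ht h2 hx)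
  rw [D.card_normalizer_Hs, D.card_G, D.c2_card_Hs_nsq] at h
  have hq := D.q_ge
  have hpos : 0 < D.q - 1 := by omega
  apply Nat.eq_of_mul_eq_mul_right hpos
  calc 2 * (XP D.Hs (fun t => t * t ≠ 1)).ncard * (D.q - 1)
      = (XP D.Hs (fun t => t * t ≠ 1)).ncard * (2 * (D.q - 1)) := by ring
    _ = _ := by rw [h]; ring

end ReeFull

end Cfsg.Agent.Lib.Helper8
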