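import Cfsg.Agent.Lib.Helper8.Ree.C2

/-! REE ladder, rung C3 (helper36). -/

set_option autoImplicit false

namespace Cfsg.Agent.Lib.Helper8

open Cfsg.Agent.Lib.Helper46 Matrix

namespace ReeFull

variable {G : Type*} [Group G] {K : Type*} [Field K] (D : ReeFull G K)

theorem c3_mem_zpowers_j {t : G} : t ∈ Subgroup.zpowers D.j ↔ t = 1 ∨ t = D.j := by
  constructor
  · intro h
    obtain ⟨k, rfl⟩ := Subgroup.mem_zpowers_iff.1 h
    have h2 : D.j ^ (2 : ℤ) = 1 := by
      rw [zpow_two]; exact D.j_sq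
    rcases Int.even_or_odd' k with ⟨m, rfl | rfl⟩
    · left
      rw [_root_.zpow_mul, h2, _root_.one_zpow]
    · right
      rw [_root_.zpow_add, _root_.zpow_mul, h2, _root_.one_zpow, one_mul, zpow_one]
  · rintro (rfl | rfl)
    · exact one_mem _
    · exact Subgroup.mem_zpowers _

theorem c3_normalizer_j :
    Subgroup.normalizer (Subgroup.zpowers D.j : Set G) = Subgroup.centralizer ({D.j} : Set G) := by
  ext x
  rw [Subgroup.mem_centralizer_singleton_iff, Subgroup.mem_normalizer_iff]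
  constructor
  · intro h
    have h1 := (h D.j).1 (Subgroup.mem_zpowers _)
    rcases D.c3_mem_zpowers_j.1 h1 with h2 | h2
    · exact absurd (conj_eq_one_iff.1 h2) D.j_ne_one
    · calc x * D.j = (x * D.j * x⁻¹) * x := by group
        _ = D.j * x := by rw [h2]
  · intro h t
    have hx : x * D.j * x⁻¹ = D.j := by rw [h]; group
    rw [D.c3_mem_zpowers_j, D.c3_mem_zpowers_j, conj_eq_one_iff]
    constructor
    · rintro (rfl | rfl)
      · left; rfl
      · right; exact hx
    · rintro (rfl | h2)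
      · left; rfl
      · right
        have : x * t * x⁻¹ = x * D.j * x⁻¹ := by rw [h2, hx]
        exact mul_left_cancel (mul_right_cancel this)

theorem c3_arith {q : ℕ} (hq : 1 ≤ q) :
    q ^ 2 * (q ^ 2 - q + 1) * (q * (q ^ 2 - 1)) = q ^ 3 * (q ^ 3 + 1) * (q - 1) := by
  obtain ⟨k, rfl⟩ : ∃ k, q = k + 1 := ⟨q - 1, by omega⟩
  have e1 : (k + 1) ^ 2 - (k + 1) + 1 = k ^ 2 + k + 1 := by
    have : (k + 1) ^ 2 = k ^ 2 + k + (k + 1) := by ring
    omega
  have e2 : (k + 1) ^ 2 - 1 = k ^ 2 + 2 * k := by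
    have : (k + 1) ^ 2 = k ^ 2 + 2 * k + 1 := by ring
    omega
  rw [e1, e2, Nat.add_sub_cancel]
  ring

theorem card_invol : {t : G | t ≠ 1 ∧ t * t = 1}.ncard = D.q ^ 2 * (D.q ^ 2 - D.q + 1) := by
  have := D.finite_G
  have : Fact (Nat.Prime 2) := ⟨Nat.prime_two⟩
  have hset : {t : G | t ≠ 1 ∧ t * t = 1} = XU (Subgroup.zpowers D.j) := by
    ext t
    constructor
    · rintro ⟨h1, h2⟩
      obtain ⟨g, hg⟩ := D.invol_conj h1 h2
      refine ⟨g⁻¹, D.j, Subgroup.mem_zpowers _, D.j_ne_one, ?_⟩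
      rw [← hg]; group
    · rintro ⟨x, s, hs, hs1, rfl⟩
      rcases D.c3_mem_zpowers_j.1 hs with rfl | rfl
      · exact absurd rfl hs1
      · refine ⟨fun h => D.j_ne_one (conj_eq_one_iff.1 h), ?_⟩
        have e : x * D.j * x⁻¹ * (x * D.j * x⁻¹) = x * (D.j * D.j) * x⁻¹ := by group
        rw [e, D.j_sq]; group
  have h := card_conj_union (Subgroup.zpowers D.j) (by
    intro t ht h1 x hx
    rcases D.c3_mem_zpowers_j.1 ht with rfl | rfl
    · exact absurd rfl h1
    · rw [D.c3_normalizer_j, Subgroup.mem_centralizer_singleton_iff]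
      rcases D.c3_mem_zpowers_j.1 hx with h2 | h2
      · exact absurd (conj_eq_one_iff.1 h2) D.j_ne_one
      · calc x * D.j = (x * D.j * x⁻¹) * x := by group
          _ = D.j * x := by rw [h2])
  have h2 : orderOf D.j = 2 := by
    apply orderOf_eq_prime _ D.j_ne_one
    rw [pow_two]; exact D.j_sq
  rw [D.c3_normalizer_j, D.card_cent_j, D.card_G, Nat.card_zpowers, h2] at h
  have hq := D.q_ge
  have hpos : 0 < D.q * (D.q ^ 2 - 1) := by
    apply Nat.mul_pos (by omega)
    have : 27 ^ 2 ≤ D.q ^ 2 := Nat.pow_le_pow_left hq 2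
    omega
  rw [hset]
  apply Nat.eq_of_mul_eq_mul_right hpos
  rw [h, c3_arith (by omega)]
  ring

end ReeFull

end Cfsg.Agent.Lib.Helper8
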