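import Cfsg.Agent.Lib.Helper8.Ree.C3

/-! REE ladder, rung C4 (helper36). -/

set_option autoImplicit false

namespace Cfsg.Agent.Lib.Helper8

open Cfsg.Agent.Lib.Helper46 Matrix

namespace ReeFull

variable {G : Type*} [Group G] {K : Type*} [Field K] (D : ReeFull G K)

theorem c4_UU (a b : K) : D.U 0 a 0 * D.U 0 b 0 = D.U 0 (a + b) 0 := by
  rw [D.U0_mul, add_zero]

theorem c4_UJ_UJ (a b : K) : D.U 0 a 0 * D.j * (D.U 0 b 0 * D.j) = D.U 0 (a + b) 0 := by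
  calc D.U 0 a 0 * D.j * (D.U 0 b 0 * D.j) = D.U 0 a 0 * (D.j * D.U 0 b 0) * D.j := by group
    _ = D.U 0 a 0 * D.U 0 b 0 * (D.j * D.j) := by rw [D.pk4_j_U]; group
    _ = _ := by rw [D.j_sq, mul_one, D.c4_UU]

/-- the subgroup `UL × ⟨j⟩`, with explicit carrier. -/
def c4_T : Subgroup G where
  carrier := {g | ∃ a, g = D.U 0 a 0 ∨ g = D.U 0 a 0 * D.j}
  mul_mem' := by
    rintro _ _ ⟨a, rfl | rfl⟩ ⟨b, rfl | rfl⟩
    · exact ⟨a + b, Or.inl (D.c4_UU a b)⟩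
    · exact ⟨a + b, Or.inr (by rw [← mul_assoc, D.c4_UU])⟩
    · refine ⟨a + b, Or.inr ?_⟩
      rw [mul_assoc, D.pk4_j_U, ← mul_assoc, D.c4_UU]
    · exact ⟨a + b, Or.inl (D.c4_UJ_UJ a b)⟩
  one_mem' := ⟨0, Or.inl D.U_zero.symm⟩
  inv_mem' := by
    rintro _ ⟨a, rfl | rfl⟩
    · refine ⟨-a, Or.inl ?_⟩
      apply inv_eq_of_mul_eq_one_right
      rw [D.c4_UU, add_neg_cancel, D.U_zero]
    · refine ⟨-a, Or.inr ?_⟩
      apply inv_eq_of_mul_eq_one_right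
      rw [D.c4_UJ_UJ, add_neg_cancel, D.U_zero]

theorem c4_mem_T {g : G} : g ∈ D.c4_T ↔ ∃ a, g = D.U 0 a 0 ∨ g = D.U 0 a 0 * D.j := Iff.rfl

theorem c4_sq (a : K) : (D.U 0 a 0 * D.j) ^ 2 = D.U 0 (a + a) 0 := by
  rw [pow_two, D.c4_UJ_UJ]

theorem c4_cube (a : K) : (D.U 0 a 0 * D.j) ^ 3 = D.j := by
  rw [pow_succ, D.c4_sq, ← mul_assoc, D.c4_UU]
  have : a + a + a = 0 := by linear_combination a * D.three
  rw [this, D.U_zero, one_mul]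

/-- the predicate selecting the elements of order `6`. -/
def c4_P (g : G) : Prop := g ^ 2 ≠ 1 ∧ g ^ 3 ≠ 1

theorem c4_P_conj (x t : G) : c4_P (x * t * x⁻¹) ↔ c4_P t := by
  unfold c4_P
  rw [conj_pow, conj_pow, Ne, Ne, conj_eq_one_iff, conj_eq_one_iff]

theorem c4_P_UJ {a : K} (ha : a ≠ 0) : c4_P (D.U 0 a 0 * D.j) := by
  refine ⟨?_, ?_⟩
  · rw [D.c4_sq]
    apply D.U_ne_one
    rintro ⟨-, h, -⟩
    have h2 : (2 : K) * a = 0 := by linear_combination h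
    rcases mul_eq_zero.1 h2 with h3 | h3
    · exact D.two_ne_zero' h3
    · exact ha h3
  · rw [D.c4_cube]; exact D.j_ne_one

theorem c4_P_iff {t : G} : (t ∈ D.c4_T ∧ c4_P t) ↔ ∃ a, a ≠ 0 ∧ t = D.U 0 a 0 * D.j := by
  constructor
  · rintro ⟨⟨a, rfl | rfl⟩, h2, h3⟩
    · exact absurd ((D.ua_cube_eq_one_iff 0 a 0).2 rfl) h3
    · refine ⟨a, ?_, rfl⟩
      rintro rfl
      apply h2
      rw [D.c4_sq, add_zero, D.U_zero]
  · rintro ⟨a, ha, rfl⟩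
    exact ⟨⟨a, Or.inr rfl⟩, D.c4_P_UJ ha⟩

theorem c4_core {a b : K} (ha : a ≠ 0) {x : G}
    (h : x * (D.U 0 a 0 * D.j) * x⁻¹ = D.U 0 b 0 * D.j) : ∃ c z, x = D.U 0 c 0 * D.H z := by
  have hj : x * D.j * x⁻¹ = D.j := by
    have := congrArg (fun g => g ^ 3) h
    simp only [conj_pow, D.c4_cube] at this
    exact this
  have hU : x * D.U 0 a 0 * x⁻¹ = D.U 0 b 0 := by
    have e : x * (D.U 0 a 0 * D.j) * x⁻¹ = (x * D.U 0 a 0 * x⁻¹) * (x * D.j * x⁻¹) := by group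
    rw [e, hj] at h
    exact mul_right_cancel h
  have hB : x ∈ D.Bs := by
    apply D.mem_Bs_of_conj (D.U_mem 0 a 0)
    · apply D.U_ne_one
      rintro ⟨-, h, -⟩
      exact ha h
    · rw [hU]; exact D.Us_le_Bs (D.U_mem _ _ _)
  have hc : x * D.j = D.j * x := by
    calc x * D.j = (x * D.j * x⁻¹) * x := by group
      _ = D.j * x := by rw [hj]
  rcases D.cent_j_iff.1 hc with ⟨c, z, rfl⟩ | ⟨c, z, d, rfl⟩
  · exact ⟨c, z, rfl⟩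
  · exfalso
    obtain ⟨y, hy, w, e⟩ := hB
    exact D.disj' hy (D.U_mem _ _ _) (D.U_mem _ _ _) e.symm

theorem c4_H_conj (z : Kˣ) {t : G} (ht : t ∈ D.c4_T) : D.H z * t * (D.H z)⁻¹ ∈ D.c4_T := by
  obtain ⟨a, rfl | rfl⟩ := ht
  · refine ⟨z * D.ψ z * a, Or.inl ?_⟩
    rw [D.H_conj]
    congr 1 <;> simp
  · refine ⟨z * D.ψ z * a, Or.inr ?_⟩
    have e : D.H z * (D.U 0 a 0 * D.j) * (D.H z)⁻¹
        = (D.H z * D.U 0 a 0 * (D.H z)⁻¹) * (D.H z * D.j) * (D.H z)⁻¹ := by group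
    rw [e, ← D.pk4_j_H, D.H_conj, mul_assoc, mul_inv_cancel_right]
    congr 2 <;> simp

theorem c4_H_mem (z : Kˣ) : D.H z ∈ Subgroup.normalizer (D.c4_T : Set G) := by
  rw [Subgroup.mem_normalizer_iff]
  intro t
  refine ⟨D.c4_H_conj z, fun h => ?_⟩
  have := D.c4_H_conj z⁻¹ h
  rw [map_inv] at this
  have e : (D.H z)⁻¹ * (D.H z * t * (D.H z)⁻¹) * (D.H z)⁻¹⁻¹ = t := by group
  rwa [e] at this

theorem c4_mem_normalizer {x : G} :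
    x ∈ Subgroup.normalizer (D.c4_T : Set G) ↔ ∃ c z, x = D.U 0 c 0 * D.H z := by
  constructor
  · intro hx
    have h1 : D.U 0 1 0 * D.j ∈ D.c4_T := ⟨1, Or.inr rfl⟩
    have h2 := (Subgroup.mem_normalizer_iff.1 hx _).1 h1
    have h3 : c4_P (x * (D.U 0 1 0 * D.j) * x⁻¹) := (c4_P_conj _ _).2 (D.c4_P_UJ one_ne_zero)
    obtain ⟨b, -, hb⟩ := D.c4_P_iff.1 ⟨h2, h3⟩
    exact D.c4_core one_ne_zero hb
  · rintro ⟨c, z, rfl⟩
    exact mul_mem (Subgroup.le_normalizer (show D.U 0 c 0 ∈ D.c4_T from ⟨c, Or.inl rfl⟩)) (D.c4_H_mem z)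

theorem c4_card_normalizer : Nat.card (Subgroup.normalizer (D.c4_T : Set G)) = D.q * (D.q - 1) := by
  have hset : ((Subgroup.normalizer (D.c4_T : Set G) : Subgroup G) : Set G) =
      (fun p : K × Kˣ => D.U 0 p.1 0 * D.H p.2) '' Set.univ := by
    ext x
    rw [SetLike.mem_coe, D.c4_mem_normalizer]
    constructor
    · rintro ⟨c, z, rfl⟩
      exact ⟨(c, z), trivial, rfl⟩
    · rintro ⟨⟨c, z⟩, -, rfl⟩
      exact ⟨c, z, rfl⟩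
  have h1 : Nat.card (Subgroup.normalizer (D.c4_T : Set G)) =
      ((Subgroup.normalizer (D.c4_T : Set G) : Subgroup G) : Set G).ncard := rfl
  rw [h1, hset, Set.ncard_image_of_injective, Set.ncard_univ, Nat.card_prod, D.pk1_card_K,
    D.pk1_card_units]
  rintro ⟨c, z⟩ ⟨c', z'⟩ h
  obtain ⟨e1, e2⟩ := D.uniqB _ _ _ _ _ _ _ _ h
  exact Prod.ext (D.U_inj _ _ _ _ _ _ e1).2.1 e2

theorem c4_card_P : {t | t ∈ D.c4_T ∧ c4_P t}.ncard = D.q - 1 := by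
  have := D.pk1_finite_K
  have hset : {t | t ∈ D.c4_T ∧ c4_P t} = (fun a : K => D.U 0 a 0 * D.j) '' ({0}ᶜ : Set K) := by
    ext t
    rw [Set.mem_ofPred_eq, D.c4_P_iff]
    constructor
    · rintro ⟨a, ha, rfl⟩
      exact ⟨a, ha, rfl⟩
    · rintro ⟨a, ha, rfl⟩
      exact ⟨a, ha, rfl⟩
  rw [hset, Set.ncard_image_of_injective, Set.ncard_compl, Set.ncard_singleton, D.pk1_card_K]
  intro a b h
  exact (D.U_inj _ _ _ _ _ _ (mul_right_cancel h)).2.1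

theorem card_six : {g : G | ∃ x a, a ≠ 0 ∧ x * g * x⁻¹ = D.U 0 a 0 * D.j}.ncard =
    D.q ^ 2 * (D.q - 1) * (D.q ^ 3 + 1) := by
  have := D.finite_G
  have hset : {g : G | ∃ x a, a ≠ 0 ∧ x * g * x⁻¹ = D.U 0 a 0 * D.j} = XP D.c4_T c4_P := by
    ext g
    constructor
    · rintro ⟨x, a, ha, h⟩
      refine ⟨x⁻¹, D.U 0 a 0 * D.j, ⟨a, Or.inr rfl⟩, D.c4_P_UJ ha, ?_⟩
      rw [← h]; group
    · rintro ⟨x, t, ht, hP, rfl⟩
      obtain ⟨a, ha, rfl⟩ := D.c4_P_iff.1 ⟨ht, hP⟩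
      refine ⟨x⁻¹, a, ha, ?_⟩
      group
  have h := card_XP D.c4_T c4_P c4_P_conj (by
    intro t ht hP x hx
    obtain ⟨a, ha, rfl⟩ := D.c4_P_iff.1 ⟨ht, hP⟩
    obtain ⟨b, -, hb⟩ := D.c4_P_iff.1 ⟨hx, (c4_P_conj _ _).2 hP⟩
    exact D.c4_mem_normalizer.2 (D.c4_core ha hb))
  rw [D.c4_card_normalizer, D.card_G, D.c4_card_P] at h
  have hq := D.q_ge
  have hpos : 0 < D.q * (D.q - 1) := Nat.mul_pos (by omega) (by omega)
  rw [hset]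
  apply Nat.eq_of_mul_eq_mul_right hpos
  rw [h]
  ring

end ReeFull

end Cfsg.Agent.Lib.Helper8
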