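import Cfsg.Agent.Lib.Helper8.Ree.C4

/-! REE ladder, rung C5 (helper36). -/

set_option autoImplicit false

namespace Cfsg.Agent.Lib.Helper8

open Cfsg.Agent.Lib.Helper46 Matrix

namespace ReeFull

variable {G : Type*} [Group G] {K : Type*} [Field K] (D : ReeFull G K)

theorem c5_M_TI {t x : G} (ht : t ∈ D.M) (h2 : t * t ≠ 1) (hx : x * t * x⁻¹ ∈ D.M) :
    x ∈ Subgroup.normalizer (D.M : Set G) := by
  rw [Subgroup.mem_normalizer_iff]
  intro h
  have e1 := D.cent_M ht h2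
  have e2 := D.cent_M hx ((c2_conj_sq x t).2 h2)
  constructor
  · intro hh
    rw [← e2, mem_centralizer_conj, e1]; exact hh
  · intro hh
    rw [← e2, mem_centralizer_conj, e1] at hh; exact hh

theorem c5_card_M_nsq : {t | t ∈ D.M ∧ t * t ≠ 1}.ncard = D.q - 3 := by
  have := D.finite_G
  have hset : {t | t ∈ D.M ∧ t * t ≠ 1} = (D.M : Set G) \ {t | t ∈ D.M ∧ t * t = 1} := by
    ext t
    constructor
    · rintro ⟨h1, h2⟩
      exact ⟨h1, fun h => h2 h.2⟩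
    · rintro ⟨h1, h2⟩
      exact ⟨h1, fun h => h2 ⟨h1, h⟩⟩
  have hsub : {t | t ∈ D.M ∧ t * t = 1} ⊆ (D.M : Set G) := fun t ht => ht.1
  rw [hset, Set.ncard_sdiff hsub (Set.toFinite _), D.card_M_sq]
  have : (D.M : Set G).ncard = D.q + 1 := by
    rw [← D.card_M]; rfl
  rw [this]
  omega

theorem c5_arith {q : ℕ} (hq : 1 ≤ q) : q ^ 3 + 1 = (q + 1) * (q ^ 2 - q + 1) := by
  obtain ⟨k, rfl⟩ : ∃ k, q = k + 1 := ⟨q - 1, by omega⟩
  have e1 : (k + 1) ^ 2 - (k + 1) + 1 = k ^ 2 + k + 1 := by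
    have : (k + 1) ^ 2 = k ^ 2 + k + (k + 1) := by ring
    omega
  rw [e1]
  ring

theorem card_XP_M : 6 * (XP D.M (fun t => t * t ≠ 1)).ncard =
    D.q ^ 3 * (D.q - 1) * (D.q ^ 2 - D.q + 1) * (D.q - 3) := by
  have := D.finite_G
  have h := card_XP D.M (fun t => t * t ≠ 1) (fun x t => c2_conj_sq x t)
    (fun t ht h2 x hx => D.c5_M_TI ht h2 hx)
  rw [D.card_normalizer_M, D.card_G, D.c5_card_M_nsq] at h
  have hq := D.q_ge
  have hpos : 0 < D.q + 1 := by omega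
  apply Nat.eq_of_mul_eq_mul_right hpos
  calc 6 * (XP D.M (fun t => t * t ≠ 1)).ncard * (D.q + 1)
      = (XP D.M (fun t => t * t ≠ 1)).ncard * (6 * (D.q + 1)) := by ring
    _ = _ := by rw [h, c5_arith (show 1 ≤ D.q by omega)]; ring

end ReeFull

end Cfsg.Agent.Lib.Helper8
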