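import Cfsg.Agent.Lib.Helper8.Ree.C5

/-! REE ladder, rung C6 (helper9). -/

set_option autoImplicit false

namespace Cfsg.Agent.Lib.Helper8

open Cfsg.Agent.Lib.Helper46 Matrix

/-- the type of an element, read off from its order -/
def c6_kap (q o : ℕ) : ℕ :=
  if o = 1 then 0 else if o = 2 then 3 else if o = 6 then 4 else if 3 ∣ o then 1
  else if o ∣ q - 1 then 2 else if o ∣ q + 1 then 5 else 6

lemma c6_orderOf_conj {G : Type*} [Group G] (x g : G) : orderOf (x * g * x⁻¹) = orderOf g := by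
  have := orderOf_injective (MulAut.conj x).toMonoidHom (MulAut.conj x).injective g
  simpa [MulAut.conj_apply] using this

lemma c6_arith {p G' s1 s2 s3 s4 s5 s6 : ℕ}
    (hG : G' = (p + 3) ^ 3 * ((p + 3) ^ 3 + 1) * (p + 3 - 1))
    (h1 : s1 = ((p + 3) ^ 3 + 1) * ((p + 3) ^ 3 - 1))
    (h2 : 2 * s2 = (p + 3) ^ 3 * ((p + 3) ^ 3 + 1) * (p + 3 - 3))
    (h3 : s3 = (p + 3) ^ 2 * ((p + 3) ^ 2 - (p + 3) + 1))
    (h4 : s4 = (p + 3) ^ 2 * (p + 3 - 1) * ((p + 3) ^ 3 + 1))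
    (h5 : 6 * s5 = (p + 3) ^ 3 * (p + 3 - 1) * ((p + 3) ^ 2 - (p + 3) + 1) * (p + 3 - 3))
    (h : G' = 1 + s1 + s2 + s3 + s4 + s5 + s6) :
    3 * s6 = (p + 3) ^ 4 * ((p + 3) ^ 2 - 1) * (p + 3 - 2) := by
  have e1 : p + 3 - 1 = p + 2 := by omega
  have e2 : p + 3 - 2 = p + 1 := by omega
  have e3 : p + 3 - 3 = p := by omega
  have e4 : (p + 3) ^ 3 - 1 = p ^ 3 + 9 * p ^ 2 + 27 * p + 26 := by
    have : (p + 3) ^ 3 = p ^ 3 + 9 * p ^ 2 + 27 * p + 26 + 1 := by ring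
    omega
  have e5 : (p + 3) ^ 2 - (p + 3) + 1 = p ^ 2 + 5 * p + 7 := by
    have : (p + 3) ^ 2 = p ^ 2 + 5 * p + 6 + (p + 3) := by ring
    omega
  have e6 : (p + 3) ^ 2 - 1 = p ^ 2 + 6 * p + 8 := by
    have : (p + 3) ^ 2 = p ^ 2 + 6 * p + 8 + 1 := by ring
    omega
  rw [e1] at hG h4 h5
  rw [e3] at h2 h5
  rw [e4] at h1
  rw [e5] at h3 h5
  rw [e6, e2]
  apply Nat.eq_of_mul_eq_mul_left (show 0 < 2 by norm_num)
  clear e1 e2 e3 e4 e5 e6
  zify at *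
  linear_combination (-6 : ℤ) * h + 6 * hG - 6 * h1 - 3 * h2 - 6 * h3 - 6 * h4 - h5

namespace ReeFull

variable {G : Type*} [Group G] {K : Type*} [Field K] (D : ReeFull G K)

theorem c6_k1 {o : ℕ} (h : o ∣ 9) (h1 : o ≠ 1) : c6_kap D.q o = 1 := by
  have hle : o ≤ 9 := Nat.le_of_dvd (by norm_num) h
  interval_cases o <;> first | omega | simp [c6_kap]

theorem c6_k2 {o : ℕ} (h : o ∣ D.q - 1) (h2 : ¬ o ∣ 2) : c6_kap D.q o = 2 := by
  have h3 := D.three_dvd_q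
  have hq := D.q_ge
  have a1 : o ≠ 1 := by rintro rfl; exact h2 (one_dvd _)
  have a2 : o ≠ 2 := by rintro rfl; exact h2 dvd_rfl
  have a3 : ¬ 3 ∣ o := by
    intro h4
    have := h4.trans h
    omega
  have a6 : o ≠ 6 := by rintro rfl; exact a3 (by norm_num)
  simp [c6_kap, a1, a2, a3, a6, h]

theorem c6_k5 {o : ℕ} (h : o ∣ D.q + 1) (h2 : ¬ o ∣ 2) : c6_kap D.q o = 5 := by
  have h3 := D.three_dvd_q
  have hq := D.q_ge
  have a1 : o ≠ 1 := by rintro rfl; exact h2 (one_dvd _)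
  have a2 : o ≠ 2 := by rintro rfl; exact h2 dvd_rfl
  have a3 : ¬ 3 ∣ o := by
    intro h4
    have := h4.trans h
    omega
  have a6 : o ≠ 6 := by rintro rfl; exact a3 (by norm_num)
  have a7 : ¬ o ∣ D.q - 1 := by
    intro h4
    apply h2
    have := Nat.dvd_sub h h4
    have e : D.q + 1 - (D.q - 1) = 2 := by omega
    rwa [e] at this
  simp [c6_kap, a1, a2, a3, a6, a7, h]

theorem c6_k6 {o : ℕ} (h : o ∣ D.q ^ 2 - D.q + 1) (h1 : o ≠ 1) : c6_kap D.q o = 6 := by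
  have h7 := D.seven_le_of_dvd h h1
  have a2 : o ≠ 2 := by omega
  have a6 : o ≠ 6 := by omega
  have a3 : ¬ 3 ∣ o := by
    intro h4
    have := D.seven_le_of_dvd (h4.trans h) (by norm_num)
    omega
  have hc := D.coprime_pi
  have key : ∀ k, k ∣ D.q ^ 3 * (D.q - 1) * (D.q + 1) → ¬ o ∣ k := by
    intro k hk ho
    have h5 : Nat.Coprime o o := Nat.Coprime.coprime_dvd_left h
      (Nat.Coprime.coprime_dvd_right (ho.trans hk) hc)
    exact h1 ((Nat.coprime_self o).1 h5)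
  have a7 : ¬ o ∣ D.q - 1 := key _ ⟨D.q ^ 3 * (D.q + 1), by ring⟩
  have a8 : ¬ o ∣ D.q + 1 := key _ ⟨D.q ^ 3 * (D.q - 1), by ring⟩
  simp [c6_kap, h1, a2, a3, a6, a7, a8]

theorem c6_S1 {g : G} (hg : g ∈ XU D.Us) : c6_kap D.q (orderOf g) = 1 := by
  obtain ⟨x, t, ht, ht1, rfl⟩ := hg
  rw [c6_orderOf_conj]
  exact D.c6_k1 (orderOf_dvd_of_pow_eq_one (D.Us_pow_nine ht)) (fun h => ht1 (orderOf_eq_one_iff.1 h))

theorem c6_not_dvd_two {t : G} (h : t * t ≠ 1) : ¬ orderOf t ∣ 2 := by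
  intro h2
  apply h
  rw [← pow_two]
  exact orderOf_dvd_iff_pow_eq_one.1 h2

theorem c6_S2 {g : G} (hg : g ∈ XP D.Hs (fun t => t * t ≠ 1)) : c6_kap D.q (orderOf g) = 2 := by
  obtain ⟨x, t, ht, ht1, rfl⟩ := hg
  rw [c6_orderOf_conj]
  apply D.c6_k2 _ (c6_not_dvd_two ht1)
  rw [← D.card_Hs, ← Subgroup.orderOf_mk t ht]
  exact orderOf_dvd_natCard _

theorem c6_S3 {g : G} (hg : g ∈ {t : G | t ≠ 1 ∧ t * t = 1}) : c6_kap D.q (orderOf g) = 3 := by
  have : orderOf g = 2 := orderOf_eq_prime (by rw [pow_two]; exact hg.2) hg.1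
  rw [this]
  simp [c6_kap]

theorem c6_S4 {g : G} (hg : g ∈ {g : G | ∃ x a, a ≠ 0 ∧ x * g * x⁻¹ = D.U 0 a 0 * D.j}) :
    c6_kap D.q (orderOf g) = 4 := by
  obtain ⟨x, a, ha, h⟩ := hg
  rw [← c6_orderOf_conj x g, h, D.orderOf_UJ ha]
  simp [c6_kap]

theorem c6_S5 {g : G} (hg : g ∈ XP D.M (fun t => t * t ≠ 1)) : c6_kap D.q (orderOf g) = 5 := by
  obtain ⟨x, t, ht, ht1, rfl⟩ := hg
  rw [c6_orderOf_conj]
  apply D.c6_k5 _ (c6_not_dvd_two ht1)
  rw [← D.card_M, ← Subgroup.orderOf_mk t ht]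
  exact orderOf_dvd_natCard _

theorem c6_S6 {g : G} (hg : g ∈ {g : G | D.IsPi g}) : c6_kap D.q (orderOf g) = 6 :=
  D.c6_k6 (orderOf_dvd_of_pow_eq_one hg.2) (fun h => hg.1 (orderOf_eq_one_iff.1 h))

theorem c6_S0 {g : G} (hg : g ∈ ({1} : Set G)) : c6_kap D.q (orderOf g) = 0 := by
  rw [Set.mem_singleton_iff] at hg
  rw [hg, orderOf_one]
  simp [c6_kap]

theorem c6_cover : (Set.univ : Set G) = {1} ∪ XU D.Us ∪ XP D.Hs (fun t => t * t ≠ 1) ∪
    {t : G | t ≠ 1 ∧ t * t = 1} ∪ {g : G | ∃ x a, a ≠ 0 ∧ x * g * x⁻¹ = D.U 0 a 0 * D.j} ∪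
    XP D.M (fun t => t * t ≠ 1) ∪ {g : G | D.IsPi g} := by
  symm
  rw [Set.eq_univ_iff_forall]
  intro g
  by_cases hg : g = 1
  · exact Or.inl (Or.inl (Or.inl (Or.inl (Or.inl (Or.inl hg)))))
  have hsq : ∀ x : G, x * g * x⁻¹ * (x * g * x⁻¹) = 1 → g * g = 1 := by
    intro x h
    have e : x * g * x⁻¹ * (x * g * x⁻¹) = x * (g * g) * x⁻¹ := by group
    rw [e] at h
    by_contra hc
    exact conj_ne_one hc h
  rcases D.types hg with ⟨x, h⟩ | ⟨x, h⟩ | h | ⟨x, h⟩ | h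
  · exact Or.inl (Or.inl (Or.inl (Or.inl (Or.inl (Or.inr
      ⟨x⁻¹, _, h, conj_ne_one hg, by group⟩)))))
  · by_cases h2 : x * g * x⁻¹ * (x * g * x⁻¹) = 1
    · exact Or.inl (Or.inl (Or.inl (Or.inr ⟨hg, hsq x h2⟩)))
    · exact Or.inl (Or.inl (Or.inl (Or.inl (Or.inr ⟨x⁻¹, _, h, h2, by group⟩))))
  · exact Or.inl (Or.inl (Or.inr h))
  · by_cases h2 : x * g * x⁻¹ * (x * g * x⁻¹) = 1
    · exact Or.inl (Or.inl (Or.inl (Or.inr ⟨hg, hsq x h2⟩)))
    · exact Or.inl (Or.inr ⟨x⁻¹, _, h, h2, by group⟩)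
  · exact Or.inr h

/-! ### rung C6 (partition of G by `types` + arithmetic) -/
theorem card_pi : 3 * {g : G | D.IsPi g}.ncard = D.q ^ 4 * (D.q ^ 2 - 1) * (D.q - 2) := by
  have := D.finite_G
  have hfin : ∀ s : Set G, s.Finite := fun s => Set.toFinite s
  have hcard : Nat.card G = (Set.univ : Set G).ncard := (Set.ncard_univ G).symm
  rw [D.c6_cover] at hcard
  have d1 : Disjoint ({1} : Set G) (XU D.Us) :=
    Set.disjoint_left.2 fun g h h' => by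
      have a := D.c6_S0 h
      have b := D.c6_S1 h'
      omega
  have d2 : Disjoint ({1} ∪ XU D.Us) (XP D.Hs (fun t => t * t ≠ 1)) :=
    Set.disjoint_left.2 fun g h h' => by
      have b := D.c6_S2 h'
      rcases h with h | h
      · have a := D.c6_S0 h; omega
      · have a := D.c6_S1 h; omega
  have d3 : Disjoint ({1} ∪ XU D.Us ∪ XP D.Hs (fun t => t * t ≠ 1)) {t : G | t ≠ 1 ∧ t * t = 1} :=
    Set.disjoint_left.2 fun g h h' => by
      have b := D.c6_S3 h'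
      rcases h with (h | h) | h
      · have a := D.c6_S0 h; omega
      · have a := D.c6_S1 h; omega
      · have a := D.c6_S2 h; omega
  have d4 : Disjoint ({1} ∪ XU D.Us ∪ XP D.Hs (fun t => t * t ≠ 1) ∪ {t : G | t ≠ 1 ∧ t * t = 1})
      {g : G | ∃ x a, a ≠ 0 ∧ x * g * x⁻¹ = D.U 0 a 0 * D.j} :=
    Set.disjoint_left.2 fun g h h' => by
      have b := D.c6_S4 h'
      rcases h with ((h | h) | h) | h
      · have a := D.c6_S0 h; omega
      · have a := D.c6_S1 h; omega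
      · have a := D.c6_S2 h; omega
      · have a := D.c6_S3 h; omega
  have d5 : Disjoint ({1} ∪ XU D.Us ∪ XP D.Hs (fun t => t * t ≠ 1) ∪ {t : G | t ≠ 1 ∧ t * t = 1} ∪
      {g : G | ∃ x a, a ≠ 0 ∧ x * g * x⁻¹ = D.U 0 a 0 * D.j}) (XP D.M (fun t => t * t ≠ 1)) :=
    Set.disjoint_left.2 fun g h h' => by
      have b := D.c6_S5 h'
      rcases h with (((h | h) | h) | h) | h
      · have a := D.c6_S0 h; omega
      · have a := D.c6_S1 h; omega
      · have a := D.c6_S2 h; omega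
      · have a := D.c6_S3 h; omega
      · have a := D.c6_S4 h; omega
  have d6 : Disjoint ({1} ∪ XU D.Us ∪ XP D.Hs (fun t => t * t ≠ 1) ∪ {t : G | t ≠ 1 ∧ t * t = 1} ∪
      {g : G | ∃ x a, a ≠ 0 ∧ x * g * x⁻¹ = D.U 0 a 0 * D.j} ∪ XP D.M (fun t => t * t ≠ 1))
      {g : G | D.IsPi g} :=
    Set.disjoint_left.2 fun g h h' => by
      have b := D.c6_S6 h'
      rcases h with ((((h | h) | h) | h) | h) | h
      · have a := D.c6_S0 h; omega
      · have a := D.c6_S1 h; omega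
      · have a := D.c6_S2 h; omega
      · have a := D.c6_S3 h; omega
      · have a := D.c6_S4 h; omega
      · have a := D.c6_S5 h; omega
  rw [Set.ncard_union_eq d6 (hfin _) (hfin _), Set.ncard_union_eq d5 (hfin _) (hfin _),
    Set.ncard_union_eq d4 (hfin _) (hfin _), Set.ncard_union_eq d3 (hfin _) (hfin _),
    Set.ncard_union_eq d2 (hfin _) (hfin _), Set.ncard_union_eq d1 (hfin _) (hfin _),
    Set.ncard_singleton] at hcard
  have hG := D.card_G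
  have h1 := D.card_XU_Us
  have h2 := D.card_XP_Hs
  have h3 := D.card_invol
  have h4 := D.card_six
  have h5 := D.card_XP_M
  have hq := D.q_ge
  generalize D.q = q at *
  obtain ⟨p, rfl⟩ := Nat.exists_eq_add_of_le' (show 3 ≤ q by omega)
  exact c6_arith hG h1 h2 h3 h4 h5 hcard

end ReeFull

end Cfsg.Agent.Lib.Helper8
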