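import Cfsg.Agent.Lib.Helper8.Ree.CU

/-! REE ladder, rung CI (helper67). -/

set_option autoImplicit false

namespace Cfsg.Agent.Lib.Helper8

open Cfsg.Agent.Lib.Helper46 Matrix

/-! ### rung CI (pure, Sylow) -/
theorem conj_into_sub {G : Type*} [Group G] [Finite G] (A : Subgroup G) {p : ℕ} (hp : p.Prime)
    (h : ¬ p ∣ A.index) (P : Subgroup G) (hP : IsPGroup p P) : ∃ g : G, ∀ x ∈ P, g * x * g⁻¹ ∈ A := by
  haveI : Fact p.Prime := ⟨hp⟩
  -- a Sylow p-subgroup of A is a Sylow p-subgroup of G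
  obtain ⟨Q⟩ : Nonempty (Sylow p A) := inferInstance
  have hQp : IsPGroup p ((Q : Subgroup A).map A.subtype) := Q.2.map _
  have hidx : ¬ p ∣ ((Q : Subgroup A).map A.subtype).index := by
    rw [Subgroup.index_map_subtype]
    intro hd
    rcases (Nat.Prime.dvd_mul hp).mp hd with h1 | h1
    · exact Q.not_dvd_index h1
    · exact h h1
  let Q' : Sylow p G := hQp.toSylow hidx
  obtain ⟨R, hR⟩ := hP.exists_le_sylow
  obtain ⟨g, hg⟩ := MulAction.exists_smul_eq G R Q'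
  refine ⟨g, fun x hx => ?_⟩
  have h1 : g * x * g⁻¹ ∈ ((g • R : Sylow p G) : Subgroup G) := by
    rw [Sylow.coe_subgroup_smul, Subgroup.mem_pointwise_smul_iff_inv_smul_mem]
    have : (MulAut.conj g)⁻¹ • (g * x * g⁻¹) = x := by
      rw [← map_inv]
      show MulAut.conj g⁻¹ (g * x * g⁻¹) = x
      rw [MulAut.conj_apply]
      group
    rw [this]
    exact hR hx
  rw [hg] at h1
  have h2 : g * x * g⁻¹ ∈ (Q : Subgroup A).map A.subtype := h1
  exact Subgroup.map_subtype_le _ h2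

theorem conj_into {G : Type*} [Group G] [Finite G] (A : Subgroup G) {p : ℕ} (hp : p.Prime)
    (h : ¬ p ∣ A.index) {x : G} {k : ℕ} (hx : x ^ (p ^ k) = 1) : ∃ g : G, g * x * g⁻¹ ∈ A := by
  haveI : Fact p.Prime := ⟨hp⟩
  have hP : IsPGroup p (Subgroup.zpowers x) := by
    obtain ⟨j, -, hj⟩ := (Nat.dvd_prime_pow hp).mp (orderOf_dvd_of_pow_eq_one hx)
    apply IsPGroup.of_card (n := j)
    rw [Nat.card_zpowers, hj]
  obtain ⟨g, hg⟩ := conj_into_sub A hp h _ hP
  exact ⟨g, hg x (Subgroup.mem_zpowers x)⟩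

end Cfsg.Agent.Lib.Helper8
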