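import Cfsg.Agent.Lib.Helper8.Ree.Base

/-! REE ladder, rung CU (helper67). -/

set_option autoImplicit false

namespace Cfsg.Agent.Lib.Helper8

open Cfsg.Agent.Lib.Helper46 Matrix

/-! ### rung CU (pure, Mathlib + ReeLad2 for `XP`; adapt my `card_conj_union` in Lib/Helper8/ConjUnion.lean) -/
theorem card_XP {G : Type*} [Group G] [Finite G] (T : Subgroup G) (P : G → Prop)
    (hP : ∀ x t, P (x * t * x⁻¹) ↔ P t)
    (hTI : ∀ t ∈ T, P t → ∀ x : G, x * t * x⁻¹ ∈ T → x ∈ Subgroup.normalizer (T : Set G)) :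
    (XP T P).ncard * Nat.card (Subgroup.normalizer (T : Set G)) = Nat.card G * {t | t ∈ T ∧ P t}.ncard := by
  classical
  have hch : ∀ y : XP T P, ∃ p : G × G, p.2 ∈ T ∧ P p.2 ∧ (y : G) = p.1 * p.2 * p.1⁻¹ := by
    rintro ⟨y, x, t, h1, h2, h3⟩
    exact ⟨(x, t), h1, h2, h3⟩
  choose c hc1 hc2 hc3 using hch
  let T' := {t : G // t ∈ T ∧ P t}
  let f : XP T P × Subgroup.normalizer (T : Set G) → G × T' := fun p =>
    ((c p.1).1 * p.2, ⟨(p.2 : G)⁻¹ * (c p.1).2 * p.2, by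
      have := (Subgroup.mem_normalizer_iff.1 (inv_mem p.2.2) (c p.1).2).1 (hc1 p.1)
      simpa using this, by
      have := (hP (p.2 : G)⁻¹ (c p.1).2).mpr (hc2 p.1)
      simpa using this⟩)
  have hbij : Function.Bijective f := by
    constructor
    · rintro ⟨y, n⟩ ⟨y', n'⟩ e
      have e1 : (c y).1 * n = (c y').1 * n' := congrArg Prod.fst e
      have e2 : (n : G)⁻¹ * (c y).2 * n = (n' : G)⁻¹ * (c y').2 * n' :=
        congrArg (fun p : G × T' => (p.2 : G)) e
      have hy : y = y' := by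
        apply Subtype.ext
        rw [hc3 y, hc3 y']
        calc (c y).1 * (c y).2 * (c y).1⁻¹
            = ((c y).1 * n) * ((n : G)⁻¹ * (c y).2 * n) * ((c y).1 * n)⁻¹ := by group
          _ = ((c y').1 * n') * ((n' : G)⁻¹ * (c y').2 * n') * ((c y').1 * n')⁻¹ := by rw [e1, e2]
          _ = _ := by group
      subst hy
      have : (n : G) = n' := mul_left_cancel e1
      rw [Subtype.ext this]
    · rintro ⟨x, ⟨t, ht, ht1⟩⟩
      let y : XP T P := ⟨x * t * x⁻¹, x, t, ht, ht1, rfl⟩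
      have hy : x * t * x⁻¹ = (c y).1 * (c y).2 * (c y).1⁻¹ := hc3 y
      have hn : (c y).1⁻¹ * x ∈ Subgroup.normalizer (T : Set G) := by
        apply hTI t ht ht1
        have : (c y).1⁻¹ * x * t * ((c y).1⁻¹ * x)⁻¹ = (c y).1⁻¹ * (x * t * x⁻¹) * (c y).1 := by group
        rw [this, hy]
        have : (c y).1⁻¹ * ((c y).1 * (c y).2 * (c y).1⁻¹) * (c y).1 = (c y).2 := by group
        rw [this]; exact hc1 y
      refine ⟨(y, ⟨_, hn⟩), ?_⟩
      apply Prod.ext
      · show (c y).1 * ((c y).1⁻¹ * x) = x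
        group
      · apply Subtype.ext
        show ((c y).1⁻¹ * x)⁻¹ * (c y).2 * ((c y).1⁻¹ * x) = t
        have : ((c y).1⁻¹ * x)⁻¹ * (c y).2 * ((c y).1⁻¹ * x) =
            x⁻¹ * ((c y).1 * (c y).2 * (c y).1⁻¹) * x := by group
        rw [this, ← hy]; group
  have h1 := Nat.card_eq_of_bijective f hbij
  rw [Nat.card_prod, Nat.card_prod, Nat.card_coe_set_eq] at h1
  rw [h1]
  congr 1

end Cfsg.Agent.Lib.Helper8
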