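import Cfsg.Agent.Lib.Helper8.Ree.P5

/-! REE ladder, rung F1156 (helper25). -/

set_option autoImplicit false

namespace Cfsg.Agent.Lib.Helper8

open Cfsg.Agent.Lib.Helper46 Matrix

theorem f1156_cyc {G : Type*} [Group G] [Finite G] {p : ℕ} [hp : Fact p.Prime] (T : Subgroup G)
    (hT : IsCyclic T) (h : ¬ p ∣ T.index) (P : Sylow p G) : IsCyclic (P : Subgroup G) := by
  obtain ⟨g, hg⟩ := conj_into_sub T hp.out h P P.isPGroup'
  let f : (P : Subgroup G) →* T :=
    { toFun := fun x => ⟨g * x * g⁻¹, hg x x.2⟩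
      map_one' := by ext; simp
      map_mul' := fun a b => by ext; simp }
  have hf : Function.Injective f := by
    intro a b e
    have : g * a * g⁻¹ = g * b * g⁻¹ := congrArg Subtype.val e
    exact Subtype.ext (by simpa using this)
  exact isCyclic_of_injective f hf

theorem f1156_index {G : Type*} [Group G] {T : Subgroup G} {n N : ℕ} (hc : Nat.card T = n)
    (hn : 0 < n) (hG : Nat.card G = N * n) : T.index = N := by
  have h := T.index_mul_card
  rw [hc, hG] at h
  exact Nat.eq_of_mul_eq_mul_right hn h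

theorem f1156_ar1 (q : ℕ) : q ^ 3 + 1 = (q + 1) * (q ^ 2 - q + 1) := by
  obtain ⟨s, hs⟩ : ∃ s, s = q ^ 2 - q + 1 := ⟨_, rfl⟩
  have h1 : q ≤ q ^ 2 := Nat.le_self_pow (by norm_num) q
  have hs' : s + q = q ^ 2 + 1 := by omega
  rw [← hs]
  have : (q + 1) * (s + q) = (q + 1) * (q ^ 2 + 1) := by rw [hs']
  nlinarith [this]

namespace ReeFull

variable {G : Type*} [Group G] {K : Type*} [Field K] (D : ReeFull G K)

variable (ρ : G →* GL (Fin 7) K) (hρ : Function.Injective ρ)
include ρ hρ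

include D in
/-- S1156 -/
theorem F1156 {p : ℕ} [Fact p.Prime] (hp : 3 < p) (P : Sylow p G) : IsCyclic (P : Subgroup G) := by
  have := D.finite_G
  have hq := D.q_ge
  have hq8 := D.q_mod_eight
  have hpp : p.Prime := Fact.out
  obtain ⟨u₁, u₂, hp1, hp2, hc1, hc2, hn1, hn2, hset⟩ := D.tori_main ρ hρ
  have hG := D.card_G
  rw [f1156_ar1] at hG
  by_cases hA : p ∣ (D.q - 1) / 2
  · refine f1156_cyc D.Hs D.Hs_cyclic ?_ P
    rw [f1156_index (N := D.q ^ 3 * (D.q + 1) * (D.q ^ 2 - D.q + 1)) D.card_Hs (by omega)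
      (by rw [hG]; ring)]
    intro h
    have h2 : p ∣ 2 * D.q ^ 3 * (D.q + 1) * (D.q ^ 2 - D.q + 1) := by
      have e : 2 * D.q ^ 3 * (D.q + 1) * (D.q ^ 2 - D.q + 1) =
        2 * (D.q ^ 3 * (D.q + 1) * (D.q ^ 2 - D.q + 1)) := by ring
      rw [e]; exact Dvd.dvd.mul_left h _
    exact hpp.one_lt.ne' (Nat.eq_one_of_dvd_coprimes D.coprime_minus hA h2)
  by_cases hB : p ∣ (D.q + 1) / 4
  · refine f1156_cyc D.T0 (by unfold T0; infer_instance) ?_ P
    have e4 : D.q + 1 = 4 * ((D.q + 1) / 4) := by omega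
    rw [f1156_index (N := 2 * (2 * D.q ^ 3 * (D.q - 1) * (D.q ^ 2 - D.q + 1))) D.card_T0 (by omega)
      (by rw [hG]; nth_rewrite 1 [e4]; ring)]
    intro h
    rcases (Nat.Prime.dvd_mul hpp).1 h with h | h
    · have := Nat.le_of_dvd (by norm_num) h
      omega
    · exact hpp.one_lt.ne' (Nat.eq_one_of_dvd_coprimes D.coprime_plus hB h)
  by_cases hC : p ∣ D.q + D.r + 1
  · refine f1156_cyc _ (D.pi_cyclic ρ hρ hp1) ?_ P
    rw [f1156_index (N := D.q ^ 3 * (D.q - 1) * (D.q + 1) * (D.q - D.r + 1)) hc1 (by omega)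
      (by rw [hG, ← D.prod_pm]; ring)]
    intro h
    rcases (Nat.Prime.dvd_mul hpp).1 h with h | h
    · exact hpp.one_lt.ne' (Nat.eq_one_of_dvd_coprimes D.coprime_pi
        (by rw [← D.prod_pm]; exact Dvd.dvd.mul_right hC _) h)
    · exact hpp.one_lt.ne' (Nat.eq_one_of_dvd_coprimes D.coprime_pm hC h)
  by_cases hD : p ∣ D.q - D.r + 1
  · refine f1156_cyc _ (D.pi_cyclic ρ hρ hp2) ?_ P
    rw [f1156_index (N := D.q ^ 3 * (D.q - 1) * (D.q + 1) * (D.q + D.r + 1)) hc2 (by omega)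
      (by rw [hG, ← D.prod_pm]; ring)]
    intro h
    rcases (Nat.Prime.dvd_mul hpp).1 h with h | h
    · exact hpp.one_lt.ne' (Nat.eq_one_of_dvd_coprimes D.coprime_pi
        (by rw [← D.prod_pm]; exact Dvd.dvd.mul_left hD _) h)
    · exact hC h
  · refine f1156_cyc ⊥ inferInstance ?_ P
    rw [Subgroup.index_bot, D.card_G_eq]
    intro h
    rcases (Nat.Prime.dvd_mul hpp).1 h with h | h
    · have h8 : (8 : ℕ) = 2 ^ 3 := by norm_num
      rw [h8] at h
      have := Nat.le_of_dvd (by norm_num) (hpp.dvd_of_dvd_pow h)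
      omega
    rcases (Nat.Prime.dvd_mul hpp).1 h with h | h
    · rcases (Nat.Prime.dvd_mul hpp).1 h with h | h
      · rcases (Nat.Prime.dvd_mul hpp).1 h with h | h
        · have h3 : p ∣ 3 := by
            have := hpp.dvd_of_dvd_pow h
            unfold q at this
            exact hpp.dvd_of_dvd_pow this
          have := Nat.le_of_dvd (by norm_num) h3
          omega
        · exact hA h
      · exact hB h
    · rw [← D.prod_pm] at h
      rcases (Nat.Prime.dvd_mul hpp).1 h with h | h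
      · exact hC h
      · exact hD h

end ReeFull

end Cfsg.Agent.Lib.Helper8
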