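import Cfsg.Agent.Lib.Helper8.Ree.F1156

/-! REE ladder, rung F1158 (helper25). -/

set_option autoImplicit false

namespace Cfsg.Agent.Lib.Helper8

open Cfsg.Agent.Lib.Helper46 Matrix

theorem f1158_norm {G : Type*} [Group G] [Finite G] (C A N : Subgroup G) (hC : IsCyclic C) (hAC : A ≤ C)
    (h1 : ∀ g ∈ N, ∀ a ∈ C, g * a * g⁻¹ ∈ C)
    (h2 : ∀ a ∈ A, a ≠ 1 → ∀ g, g * a * g⁻¹ ∈ C → g ∈ N) :
    ∀ A₀ : Subgroup G, A₀ ≤ A → A₀ ≠ ⊥ → Subgroup.normalizer (A₀ : Set G) = N := by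
  intro A₀ h0 hne
  apply le_antisymm
  · intro g hg
    obtain ⟨a, ha, ha1⟩ : ∃ a : G, a ∈ A₀ ∧ a ≠ 1 := by
      obtain ⟨a, h⟩ := Subgroup.ne_bot_iff_exists_ne_one.1 hne
      exact ⟨a, a.2, fun e => h (Subtype.ext e)⟩
    exact h2 a (h0 ha) ha1 g (hAC (h0 ((Subgroup.mem_normalizer_iff.1 hg a).1 ha)))
  · intro g hg
    have hA0 : IsCyclic A₀ :=
      isCyclic_of_injective (Subgroup.inclusion (h0.trans hAC)) (Subgroup.inclusion_injective _)
    obtain ⟨a, ha, e⟩ := f2359_gen A₀ hA0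
    have haC : a ∈ C := hAC (h0 (by rw [e]; exact Subgroup.mem_zpowers a))
    have e1 : Subgroup.zpowers (g * a * g⁻¹) = Subgroup.zpowers a :=
      le_antisymm (f2359_zpowers_le C hC haC (h1 g hg a haC) (f2359_orderOf_conj g a))
        (f2359_zpowers_le C hC (h1 g hg a haC) haC (f2359_orderOf_conj g a).symm)
    rw [Subgroup.mem_normalizer_iff]
    intro h
    rw [e]
    constructor
    · rintro ⟨k, rfl⟩
      rw [← e1]
      refine ⟨k, ?_⟩
      show (g * a * g⁻¹) ^ k = g * a ^ k * g⁻¹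
      rw [conj_zpow]
    · intro hh
      rw [← e1] at hh
      obtain ⟨k, hk⟩ := hh
      refine ⟨k, ?_⟩
      have hk' : (g * a * g⁻¹) ^ k = g * h * g⁻¹ := hk
      rw [conj_zpow] at hk'
      show a ^ k = h
      exact mul_left_cancel (mul_right_cancel hk')

theorem f1158_pack {G : Type*} [Group G] [Finite G] (C A N : Subgroup G) (hC : IsCyclic C) (hAC : A ≤ C)
    (h1 : ∀ g ∈ N, ∀ a ∈ C, g * a * g⁻¹ ∈ C)
    (h2 : ∀ a ∈ A, a ≠ 1 → ∀ g, g * a * g⁻¹ ∈ C → g ∈ N) {k n : ℕ} (hk : Nat.card A = k) (hk1 : 1 < k)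
    (hn : Nat.card N = n) :
    ∃ A : Subgroup G, IsCyclic A ∧ Nat.card A = k ∧
        Nat.card (Subgroup.normalizer (A : Set G)) = n ∧
        ∀ A₀ : Subgroup G, A₀ ≤ A → A₀ ≠ ⊥ →
          Subgroup.normalizer (A₀ : Set G) = Subgroup.normalizer (A : Set G) := by
  have key := f1158_norm C A N hC hAC h1 h2
  have eA := key A le_rfl (f2359_ne_bot (by rw [hk]; exact hk1))
  refine ⟨A, isCyclic_of_injective (Subgroup.inclusion hAC) (Subgroup.inclusion_injective _), hk,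
    by rw [eA, hn], fun A₀ h0 hne => by rw [key A₀ h0 hne, eA]⟩

namespace ReeFull

variable {G : Type*} [Group G] {K : Type*} [Field K] (D : ReeFull G K)

theorem f1158_one : ∃ A : Subgroup G, IsCyclic A ∧ Nat.card A = (D.q - 1) / 2 ∧
        Nat.card (Subgroup.normalizer (A : Set G)) = 2 * (D.q - 1) ∧
        ∀ A₀ : Subgroup G, A₀ ≤ A → A₀ ≠ ⊥ →
          Subgroup.normalizer (A₀ : Set G) = Subgroup.normalizer (A : Set G) := by
  have := D.finite_G
  have hq := D.q_ge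
  have hq8 := D.q_mod_eight
  obtain ⟨h₀, ho, e⟩ := f2359_gen D.Hs D.Hs_cyclic
  rw [D.card_Hs] at ho
  have hcard : Nat.card (Subgroup.zpowers (h₀ ^ 2)) = (D.q - 1) / 2 := by
    rw [Nat.card_zpowers, orderOf_pow_of_dvd (by norm_num) (by rw [ho]; omega), ho]
  have hle : Subgroup.zpowers (h₀ ^ 2) ≤ D.Hs := by
    rw [Subgroup.zpowers_le, e]
    exact pow_mem (Subgroup.mem_zpowers h₀) 2
  refine f1158_pack D.Hs (Subgroup.zpowers (h₀ ^ 2)) (Subgroup.normalizer (D.Hs : Set G)) D.Hs_cyclic hle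
    (fun g hg a ha => (Subgroup.mem_normalizer_iff.1 hg a).1 ha) ?_ hcard (by omega)
    D.card_normalizer_Hs
  intro a ha ha1 g hg
  refine D.Hs_TI (hle ha) ?_ hg
  have := f2359_sq_ne_of_odd ha (by rw [hcard, Nat.odd_iff]; omega) ha1 1
  simpa using this

theorem f1158_two : ∃ A : Subgroup G, IsCyclic A ∧ Nat.card A = (D.q + 1) / 4 ∧
        Nat.card (Subgroup.normalizer (A : Set G)) = 6 * (D.q + 1) ∧
        ∀ A₀ : Subgroup G, A₀ ≤ A → A₀ ≠ ⊥ →
          Subgroup.normalizer (A₀ : Set G) = Subgroup.normalizer (A : Set G) := by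
  have := D.finite_G
  have hq := D.q_ge
  have hq8 := D.q_mod_eight
  refine f1158_pack D.T0 D.T0 (Subgroup.normalizer (D.M : Set G)) (by unfold T0; infer_instance) le_rfl
    ?_ ?_ D.card_T0 (by omega) D.card_normalizer_M
  · intro g hg a ha
    rw [D.mem_T0] at ha ⊢
    refine ⟨(Subgroup.mem_normalizer_iff.1 hg a).1 ha.1, ?_⟩
    rw [conj_pow, ha.2]; group
  · intro a ha ha1 g hg
    refine D.f2359_M_TI (D.mem_T0.1 ha).1 ?_ (D.mem_T0.1 hg).1
    have := f2359_sq_ne_of_odd ha (by rw [D.card_T0, Nat.odd_iff]; omega) ha1 1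
    simpa using this

include D in
theorem f1158_tor {u : G} {a : ℕ} (hcyc : IsCyclic (Subgroup.centralizer ({u} : Set G)))
    (htor : IsTor (Subgroup.centralizer ({u} : Set G)))
    (ha : Nat.card (Subgroup.centralizer ({u} : Set G)) = a) (ha1 : 1 < a)
    (hn : Nat.card (Subgroup.normalizer ((Subgroup.centralizer ({u} : Set G) : Subgroup G) : Set G)) = 6 * a) :
    ∃ A : Subgroup G, IsCyclic A ∧ Nat.card A = a ∧
        Nat.card (Subgroup.normalizer (A : Set G)) = 6 * a ∧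
        ∀ A₀ : Subgroup G, A₀ ≤ A → A₀ ≠ ⊥ →
          Subgroup.normalizer (A₀ : Set G) = Subgroup.normalizer (A : Set G) := by
  have := D.finite_G
  exact f1158_pack _ _ _ hcyc le_rfl (fun g hg a ha => (Subgroup.mem_normalizer_iff.1 hg a).1 ha)
    (fun t ht ht1 g hg => htor.mem_normalizer ht ht1 hg) ha ha1 hn

variable (ρ : G →* GL (Fin 7) K) (hρ : Function.Injective ρ)
include ρ hρ

/-- S1158 -/
theorem F1158 : ∀ kn ∈ ({((D.q - 1) / 2, 2 * (D.q - 1)), ((D.q + 1) / 4, 6 * (D.q + 1)),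
        (D.q - D.r + 1, 6 * (D.q - D.r + 1)), (D.q + D.r + 1, 6 * (D.q + D.r + 1))} : Set (ℕ × ℕ)),
      ∃ A : Subgroup G, IsCyclic A ∧ Nat.card A = kn.1 ∧
        Nat.card (Subgroup.normalizer (A : Set G)) = kn.2 ∧
        ∀ A₀ : Subgroup G, A₀ ≤ A → A₀ ≠ ⊥ →
          Subgroup.normalizer (A₀ : Set G) = Subgroup.normalizer (A : Set G) := by
  have hq := D.q_ge
  have hr := D.r_lt_q
  obtain ⟨u₁, u₂, hp1, hp2, hc1, hc2, hn1, hn2, hset⟩ := D.tori_main ρ hρ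
  intro kn hkn
  simp only [Set.mem_insert_iff, Set.mem_singleton_iff] at hkn
  rcases hkn with rfl | rfl | rfl | rfl
  · exact D.f1158_one
  · exact D.f1158_two
  · exact D.f1158_tor (D.pi_cyclic ρ hρ hp2) (D.pi_isTor ρ hρ hp2) hc2 (by omega) hn2
  · exact D.f1158_tor (D.pi_cyclic ρ hρ hp1) (D.pi_isTor ρ hρ hp1) hc1 (by omega) hn1

end ReeFull

end Cfsg.Agent.Lib.Helper8
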