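import Cfsg.Agent.Lib.Helper8.Ree.F1158

/-! REE ladder, rung F1159 (helper25). -/

set_option autoImplicit false

namespace Cfsg.Agent.Lib.Helper8

open Cfsg.Agent.Lib.Helper46 Matrix

theorem f1159_orderOf_conj {G : Type*} [Group G] (x t : G) : orderOf (x * t * x⁻¹) = orderOf t := by
  have := (MulAut.conj x).orderOf_eq t
  rwa [MulAut.conj_apply] at this

theorem f1159_exists_of_dvd {G : Type*} [Group G] [Finite G] {x : G} {n d : ℕ} (hx : orderOf x = n)
    (hd : d ∣ n) : ∃ g : G, orderOf g = d :=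
  ⟨x ^ (orderOf x / d), orderOf_pow_orderOf_div (orderOf_pos x).ne' (by rw [hx]; exact hd)⟩

theorem f1159_exists_of_cyclic {G : Type*} [Group G] [Finite G] (T : Subgroup G) (hT : IsCyclic T)
    {d : ℕ} (hd : d ∣ Nat.card T) : ∃ g : G, orderOf g = d := by
  obtain ⟨g, hg⟩ := IsCyclic.exists_ofOrder_eq_natCard (α := T)
  exact f1159_exists_of_dvd (x := (g : G)) (by rw [Subgroup.orderOf_coe, hg]) hd

namespace ReeFull

variable {G : Type*} [Group G] {K : Type*} [Field K] (D : ReeFull G K)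

variable (ρ : G →* GL (Fin 7) K) (hρ : Function.Injective ρ)
include ρ hρ

/-- S1159 -/
theorem F1159 (d : ℕ) : (∃ g : G, orderOf g = d) ↔
      (d ∣ 6 ∨ d ∣ 9 ∨ d ∣ D.q - 1 ∨ d ∣ (D.q + 1) / 2 ∨ d ∣ D.q - D.r + 1 ∨ d ∣ D.q + D.r + 1) := by
  have := D.finite_G
  obtain ⟨u₁, u₂, hp1, hp2, hc1, hc2, hn1, hn2, hset⟩ := D.tori_main ρ hρ
  constructor
  · rintro ⟨g, rfl⟩
    by_cases hg : g = 1
    · left; rw [hg, orderOf_one]; exact one_dvd _
    rcases D.types hg with ⟨x, hx⟩ | ⟨x, hx⟩ | ⟨x, a, ha, hx⟩ | ⟨x, hx⟩ | h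
    · right; left
      rw [← f1159_orderOf_conj x g]
      exact orderOf_dvd_of_pow_eq_one (D.Us_pow_nine hx)
    · right; right; left
      rw [← f1159_orderOf_conj x g, ← D.card_Hs]
      exact Subgroup.orderOf_dvd_natCard _ hx
    · left
      rw [← f1159_orderOf_conj x g, hx, D.orderOf_UJ ha]
    · right; right; right; left
      rw [← f1159_orderOf_conj x g]
      exact orderOf_dvd_of_pow_eq_one (D.M_pow hx)
    · have hm : g ∈ {g : G | D.IsPi g} := h
      rw [hset] at hm
      rcases hm with ⟨x, t, ht, _, rfl⟩ | ⟨x, t, ht, _, rfl⟩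
      · right; right; right; right; right
        rw [f1159_orderOf_conj, ← hc1]
        exact Subgroup.orderOf_dvd_natCard _ ht
      · right; right; right; right; left
        rw [f1159_orderOf_conj, ← hc2]
        exact Subgroup.orderOf_dvd_natCard _ ht
  · rintro (h | h | h | h | h | h)
    · exact f1159_exists_of_dvd (D.orderOf_UJ (a := 1) one_ne_zero) h
    · obtain ⟨t, _, ht⟩ := D.exists_order_nine
      exact f1159_exists_of_dvd ht h
    · exact f1159_exists_of_cyclic D.Hs D.Hs_cyclic (by rw [D.card_Hs]; exact h)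
    · obtain ⟨t, _, ht⟩ := D.exists_M_order
      exact f1159_exists_of_dvd ht h
    · exact f1159_exists_of_cyclic _ (D.pi_cyclic ρ hρ hp2) (by rw [hc2]; exact h)
    · exact f1159_exists_of_cyclic _ (D.pi_cyclic ρ hρ hp1) (by rw [hc1]; exact h)

end ReeFull

end Cfsg.Agent.Lib.Helper8
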