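import Cfsg.Agent.Lib.Helper8.Ree.C6

/-! REE ladder, rung F2359 (helper25). -/

set_option autoImplicit false

namespace Cfsg.Agent.Lib.Helper8

open Cfsg.Agent.Lib.Helper46 Matrix

theorem f2359_orderOf_conj {G : Type*} [Group G] (x t : G) : orderOf (x * t * x⁻¹) = orderOf t := by
  have := (MulAut.conj x).orderOf_eq t
  rwa [MulAut.conj_apply] at this

theorem f2359_mem_zpowers {T : Type*} [Group T] [Finite T] [IsCyclic T] {a b : T}
    (h : orderOf b = orderOf a) : b ∈ Subgroup.zpowers a := by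
  classical
  have := Fintype.ofFinite T
  have hd : 0 < orderOf a := orderOf_pos a
  have h1 := IsCyclic.card_pow_eq_one_le (α := T) hd
  have hsub : (Finset.univ.filter (fun x : T => x ∈ Subgroup.zpowers a)) ⊆
      Finset.univ.filter (fun x : T => x ^ orderOf a = 1) := by
    intro x hx
    simp only [Finset.mem_filter, Finset.mem_univ, true_and] at hx ⊢
    obtain ⟨k, rfl⟩ := hx
    show (a ^ k) ^ orderOf a = 1
    rw [← zpow_natCast, ← _root_.zpow_mul, mul_comm, _root_.zpow_mul, zpow_natCast, pow_orderOf_eq_one, _root_.one_zpow]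
  have hc : (Finset.univ.filter (fun x : T => x ∈ Subgroup.zpowers a)).card = orderOf a := by
    rw [← Nat.card_zpowers, Nat.card_eq_fintype_card, Fintype.card_subtype]
  have e := Finset.eq_of_subset_of_card_le hsub (by rw [hc]; exact h1)
  have hb : b ∈ Finset.univ.filter (fun x : T => x ^ orderOf a = 1) := by
    simp only [Finset.mem_filter, Finset.mem_univ, true_and]
    rw [← h]; exact pow_orderOf_eq_one b
  rw [← e] at hb
  simpa using hb

theorem f2359_zpowers_le {G : Type*} [Group G] [Finite G] (T : Subgroup G) (hT : IsCyclic T) {a b : G}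
    (ha : a ∈ T) (hb : b ∈ T) (h : orderOf b = orderOf a) : Subgroup.zpowers b ≤ Subgroup.zpowers a := by
  rw [Subgroup.zpowers_le]
  have h1 : (⟨b, hb⟩ : T) ∈ Subgroup.zpowers (⟨a, ha⟩ : T) :=
    f2359_mem_zpowers (by rw [Subgroup.orderOf_mk, Subgroup.orderOf_mk]; exact h)
  obtain ⟨k, hk⟩ := h1
  refine ⟨k, ?_⟩
  have := congrArg Subtype.val hk
  simpa using this

theorem f2359_gen {G : Type*} [Group G] [Finite G] (A : Subgroup G) (hA : IsCyclic A) :
    ∃ a : G, orderOf a = Nat.card A ∧ A = Subgroup.zpowers a := by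
  obtain ⟨a, ha⟩ := IsCyclic.exists_ofOrder_eq_natCard (α := A)
  refine ⟨a, by rw [Subgroup.orderOf_coe, ha], ?_⟩
  symm
  apply Subgroup.eq_of_le_of_card_ge
  · rw [Subgroup.zpowers_le]; exact a.2
  · rw [Nat.card_zpowers, Subgroup.orderOf_coe, ha]

theorem f2359_cent {G : Type*} [Group G] (T H : Subgroup G) (x : G)
    (hc : ∀ a ∈ H, a ≠ 1 → Subgroup.centralizer ({x * a * x⁻¹} : Set G) = T) :
    ∀ A : Subgroup G, A ≤ H → A ≠ ⊥ →
      Subgroup.centralizer (A : Set G) = T.map (MulAut.conj x⁻¹).toMonoidHom := by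
  intro A hA hne
  obtain ⟨a, ha, ha1⟩ : ∃ a : G, a ∈ A ∧ a ≠ 1 := by
    obtain ⟨a, h⟩ := Subgroup.ne_bot_iff_exists_ne_one.1 hne
    exact ⟨a, a.2, fun e => h (Subtype.ext e)⟩
  ext g
  rw [Subgroup.mem_map]
  constructor
  · intro hg
    have h1 : g ∈ Subgroup.centralizer ({(a : G)} : Set G) :=
      Subgroup.centralizer_le (by simpa using ha) hg
    rw [← mem_centralizer_conj (x := x), hc a (hA ha) ha1] at h1
    refine ⟨_, h1, ?_⟩
    simp only [MulEquiv.coe_toMonoidHom, MulAut.conj_apply]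
    group
  · rintro ⟨t, ht, rfl⟩
    rw [Subgroup.mem_centralizer_iff]
    intro b hb
    by_cases hb1 : b = 1
    · simp [hb1]
    · have h2 := hc b (hA hb) hb1
      rw [← h2] at ht
      have e2 : t = x * (x⁻¹ * t * x) * x⁻¹ := by group
      rw [e2, mem_centralizer_conj, Subgroup.mem_centralizer_singleton_iff] at ht
      simp only [MulEquiv.coe_toMonoidHom, MulAut.conj_apply, inv_inv]
      exact ht.symm

theorem f2359_sq_ne_of_odd {G : Type*} [Group G] [Finite G] {H : Subgroup G} {a : G} (ha : a ∈ H)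
    (hodd : Odd (Nat.card H)) (ha1 : a ≠ 1) (x : G) : x * a * x⁻¹ * (x * a * x⁻¹) ≠ 1 := by
  intro e
  apply ha1
  have h1 : orderOf (x * a * x⁻¹) ∣ 2 := orderOf_dvd_of_pow_eq_one (by rw [pow_two]; exact e)
  rw [f2359_orderOf_conj] at h1
  have h2 : orderOf a ∣ Nat.card H := Subgroup.orderOf_dvd_natCard _ ha
  have h3 : Nat.Coprime 2 (Nat.card H) := Nat.coprime_two_left.2 hodd
  exact orderOf_eq_one_iff.1 (Nat.eq_one_of_dvd_coprimes h3 h1 h2)

theorem f2359_conj_mem {G : Type*} [Group G] {T : Subgroup G} {h x : G} (hx : x * h * x⁻¹ ∈ T) :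
    ∀ a ∈ Subgroup.zpowers h, x * a * x⁻¹ ∈ T := by
  rintro _ ⟨k, rfl⟩
  have : x * h ^ k * x⁻¹ = (x * h * x⁻¹) ^ k := by rw [conj_zpow]
  show x * h ^ k * x⁻¹ ∈ T
  rw [this]; exact zpow_mem hx k

theorem f2359_ne_bot {G : Type*} [Group G] {H : Subgroup G} (h : 1 < Nat.card H) : H ≠ ⊥ := by
  rintro rfl
  simp at h

namespace ReeFull

variable {G : Type*} [Group G] {K : Type*} [Field K] (D : ReeFull G K)

theorem f2359_types {g : G} (hg : g ≠ 1) : ((∃ x, x * g * x⁻¹ ∈ D.Us) ∧ orderOf g ∣ 9) ∨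
    ((∃ x, x * g * x⁻¹ ∈ D.Hs) ∧ orderOf g ∣ D.q - 1) ∨
    ((∃ x a, a ≠ 0 ∧ x * g * x⁻¹ = D.U 0 a 0 * D.j) ∧ orderOf g = 6) ∨
    ((∃ x, x * g * x⁻¹ ∈ D.M) ∧ orderOf g ∣ (D.q + 1) / 2) ∨
    (D.IsPi g ∧ orderOf g ∣ D.q ^ 2 - D.q + 1) := by
  have := D.finite_G
  rcases D.types hg with h | h | h | h | h
  · refine Or.inl ⟨h, ?_⟩
    obtain ⟨x, hx⟩ := h
    rw [← f2359_orderOf_conj x g]
    exact orderOf_dvd_of_pow_eq_one (D.Us_pow_nine hx)
  · refine Or.inr (Or.inl ⟨h, ?_⟩)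
    obtain ⟨x, hx⟩ := h
    rw [← f2359_orderOf_conj x g, ← D.card_Hs]
    exact Subgroup.orderOf_dvd_natCard _ hx
  · refine Or.inr (Or.inr (Or.inl ⟨h, ?_⟩))
    obtain ⟨x, a, ha, hx⟩ := h
    rw [← f2359_orderOf_conj x g, hx]
    exact D.orderOf_UJ ha
  · refine Or.inr (Or.inr (Or.inr (Or.inl ⟨h, ?_⟩)))
    obtain ⟨x, hx⟩ := h
    rw [← f2359_orderOf_conj x g]
    exact orderOf_dvd_of_pow_eq_one (D.M_pow hx)
  · exact Or.inr (Or.inr (Or.inr (Or.inr ⟨h, orderOf_dvd_of_pow_eq_one h.2⟩)))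

theorem f2359_not_three_dvd_sub : ¬ 3 ∣ D.q - 1 := by
  have h1 := D.three_dvd_q
  have h2 := D.q_ge
  omega

theorem f2359_not_three_dvd_add : ¬ 3 ∣ D.q + 1 := by
  have h1 := D.three_dvd_q
  omega

theorem f2359_dvd_nine {i : ℕ} (h : i ∣ 9) : i = 1 ∨ 3 ∣ i := by
  have h1 : i ∈ Nat.divisors 9 := Nat.mem_divisors.2 ⟨h, by norm_num⟩
  have h2 : Nat.divisors 9 = {1, 3, 9} := by decide
  rw [h2] at h1
  simp only [Finset.mem_insert, Finset.mem_singleton] at h1
  rcases h1 with rfl | rfl | rfl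
  · exact Or.inl rfl
  · exact Or.inr (dvd_refl _)
  · exact Or.inr (by norm_num)

theorem f2359_pi_coprime {i : ℕ} (h : i ∣ D.q ^ 2 - D.q + 1)
    (h' : i ∣ D.q ^ 3 * (D.q - 1) * (D.q + 1)) : i = 1 :=
  Nat.eq_one_of_dvd_coprimes D.coprime_pi h h'

theorem f2359_plus_coprime {i : ℕ} (h : i ∣ (D.q + 1) / 4)
    (h' : i ∣ 2 * D.q ^ 3 * (D.q - 1) * (D.q ^ 2 - D.q + 1)) : i = 1 :=
  Nat.eq_one_of_dvd_coprimes D.coprime_plus h h'

theorem f2359_quarter_dvd : (D.q + 1) / 4 ∣ D.q + 1 := by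
  have := D.q_mod_eight
  exact Nat.div_dvd_of_dvd (by omega)

theorem f2359_half_dvd : (D.q + 1) / 2 ∣ D.q + 1 := by
  have := D.q_mod_eight
  exact Nat.div_dvd_of_dvd (by omega)

theorem f2359_conj_Hs {i : ℕ} (h2 : 2 < i) (hi : i ∣ D.q - 1) {g : G} (hg : orderOf g = i) :
    ∃ x, x * g * x⁻¹ ∈ D.Hs := by
  have hg1 : g ≠ 1 := by
    rintro rfl
    rw [orderOf_one] at hg; omega
  have hq := D.q_ge
  rcases D.f2359_types hg1 with h | h | h | h | h
  · exfalso
    rw [hg] at h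
    rcases f2359_dvd_nine h.2 with h3 | h3
    · omega
    · exact D.f2359_not_three_dvd_sub (h3.trans hi)
  · exact h.1
  · exfalso
    rw [hg] at h
    apply D.f2359_not_three_dvd_sub
    refine Dvd.dvd.trans ?_ hi
    rw [h.2]; norm_num
  · exfalso
    rw [hg] at h
    have h3 : i ∣ D.q + 1 := h.2.trans D.f2359_half_dvd
    have h4 : i ∣ (D.q + 1) - (D.q - 1) := Nat.dvd_sub h3 hi
    have h5 : (D.q + 1) - (D.q - 1) = 2 := by omega
    rw [h5] at h4
    have := Nat.le_of_dvd (by norm_num) h4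
    omega
  · exfalso
    rw [hg] at h
    have := D.f2359_pi_coprime h.2 (Dvd.dvd.mul_right (Dvd.dvd.mul_left hi _) _)
    omega

theorem f2359_conj_M {i : ℕ} (h1 : 1 < i) (hi : i ∣ (D.q + 1) / 4) {g : G}
    (hg : orderOf g = i ∨ orderOf g = 2 * i) : ∃ x, x * g * x⁻¹ ∈ D.M := by
  have hg1 : g ≠ 1 := by
    rintro rfl
    rw [orderOf_one] at hg; omega
  have hq := D.q_ge
  have hq8 := D.q_mod_eight
  have hio : i ∣ orderOf g := by
    rcases hg with h | h
    · rw [h]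
    · rw [h]; exact Dvd.intro_left _ rfl
  have h3i : ¬ 3 ∣ i := fun h => D.f2359_not_three_dvd_add ((h.trans hi).trans D.f2359_quarter_dvd)
  have h2i : ¬ 2 ∣ i := by
    intro h
    have := h.trans hi
    omega
  rcases D.f2359_types hg1 with h | h | h | h | h
  · exfalso
    rcases f2359_dvd_nine (hio.trans h.2) with h3 | h3
    · omega
    · exact h3i h3
  · exfalso
    have := D.f2359_plus_coprime hi (Dvd.dvd.mul_right (Dvd.dvd.mul_left (hio.trans h.2) _) _)
    omega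
  · exfalso
    have h6 : i ∣ 6 := by rw [← h.2]; exact hio
    have h7 : i ∈ Nat.divisors 6 := Nat.mem_divisors.2 ⟨h6, by norm_num⟩
    have h8 : Nat.divisors 6 = {1, 2, 3, 6} := by decide
    rw [h8] at h7
    simp only [Finset.mem_insert, Finset.mem_singleton] at h7
    rcases h7 with rfl | rfl | rfl | rfl
    · omega
    · exact h2i (dvd_refl _)
    · exact h3i (dvd_refl _)
    · exact h2i (by norm_num)
  · exact h.1
  · exfalso
    have := D.f2359_plus_coprime hi (Dvd.dvd.mul_left (hio.trans h.2) _)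
    omega

theorem f2359_M_TI {t x : G} (ht : t ∈ D.M) (h2 : t * t ≠ 1) (hx : x * t * x⁻¹ ∈ D.M) :
    x ∈ Subgroup.normalizer (D.M : Set G) := by
  have e1 := D.cent_M ht h2
  have h2' : x * t * x⁻¹ * (x * t * x⁻¹) ≠ 1 := by
    intro e
    apply h2
    have : x * (t * t) * x⁻¹ = 1 := by rw [← e]; group
    have h3 : t * t = x⁻¹ * (x * (t * t) * x⁻¹) * x := by group
    rw [h3, this]; group
  have e2 := D.cent_M hx h2'
  rw [Subgroup.mem_normalizer_iff]
  intro h
  constructor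
  · intro hh
    rw [← e2, mem_centralizer_conj, e1]; exact hh
  · intro hh
    rw [← e2, mem_centralizer_conj, e1] at hh; exact hh

theorem f2359_sq_ne {t : G} {i : ℕ} (h2 : 2 < i) (ht : orderOf t = i) : t * t ≠ 1 := by
  intro e
  have : orderOf t ∣ 2 := orderOf_dvd_of_pow_eq_one (by rw [pow_two]; exact e)
  have := Nat.le_of_dvd (by norm_num) this
  omega

/-- S2359 (does not need ρ) -/
theorem F2359 (H : Subgroup G) (hH : IsCyclic H) :
    (Nat.card H = (D.q - 1) / 2 →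
      IsCyclic ↥(Subgroup.centralizer (H : Set G)) ∧
        Nat.card ↥(Subgroup.centralizer (H : Set G)) = D.q - 1 ∧
        ∀ A : Subgroup G, A ≤ H → A ≠ ⊥ →
          Subgroup.centralizer (A : Set G) = Subgroup.centralizer (H : Set G)) ∧
    (Nat.card H = (D.q + 1) / 4 →
      IsMulCommutative ↥(Subgroup.centralizer (H : Set G)) ∧
        Nat.card ↥(Subgroup.centralizer (H : Set G)) = D.q + 1 ∧
        (∀ x ∈ Subgroup.centralizer (H : Set G), orderOf x ≠ 4) ∧
        ∀ A : Subgroup G, A ≤ H → A ≠ ⊥ →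
          Subgroup.centralizer (A : Set G) = Subgroup.centralizer (H : Set G)) := by
  have := D.finite_G
  have hq := D.q_ge
  have hq8 := D.q_mod_eight
  obtain ⟨h, hh, hHh⟩ := f2359_gen H hH
  constructor
  · intro hc
    rw [hc] at hh
    obtain ⟨x, hx⟩ := D.f2359_conj_Hs (by omega) (Nat.div_dvd_of_dvd (by omega)) hh
    have hodd : Odd (Nat.card H) := by
      rw [hc, Nat.odd_iff]; omega
    have hcen : ∀ a ∈ H, a ≠ 1 → Subgroup.centralizer ({x * a * x⁻¹} : Set G) = D.Hs := by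
      intro a ha ha1
      exact D.cent_Hs (f2359_conj_mem hx a (hHh ▸ ha)) (f2359_sq_ne_of_odd ha hodd ha1 x)
    have key := f2359_cent D.Hs H x hcen
    have eH := key H le_rfl (f2359_ne_bot (by rw [hc]; omega))
    refine ⟨?_, ?_, fun A hA hne => by rw [key A hA hne, eH]⟩
    · rw [eH]
      have := D.Hs_cyclic
      exact (Subgroup.equivMapOfInjective D.Hs (MulAut.conj x⁻¹).toMonoidHom
        (MulAut.conj x⁻¹).injective).isCyclic.1 this
    · rw [eH, Subgroup.card_map_of_injective (MulAut.conj x⁻¹).injective, D.card_Hs]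
  · intro hc
    rw [hc] at hh
    obtain ⟨x, hx⟩ := D.f2359_conj_M (i := (D.q + 1) / 4) (by omega) (dvd_refl _) (Or.inl hh)
    have hodd : Odd (Nat.card H) := by
      rw [hc, Nat.odd_iff]; omega
    have hcen : ∀ a ∈ H, a ≠ 1 → Subgroup.centralizer ({x * a * x⁻¹} : Set G) = D.M := by
      intro a ha ha1
      exact D.cent_M (f2359_conj_mem hx a (hHh ▸ ha)) (f2359_sq_ne_of_odd ha hodd ha1 x)
    have key := f2359_cent D.M H x hcen
    have eH := key H le_rfl (f2359_ne_bot (by rw [hc]; omega))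
    refine ⟨?_, ?_, ?_, fun A hA hne => by rw [key A hA hne, eH]⟩
    · rw [eH]
      refine ⟨⟨?_⟩⟩
      rintro ⟨_, a, ha, rfl⟩ ⟨_, b, hb, rfl⟩
      apply Subtype.ext
      show (MulAut.conj x⁻¹).toMonoidHom a * (MulAut.conj x⁻¹).toMonoidHom b =
        (MulAut.conj x⁻¹).toMonoidHom b * (MulAut.conj x⁻¹).toMonoidHom a
      rw [← map_mul, ← map_mul, D.M_comm ha hb]
    · rw [eH, Subgroup.card_map_of_injective (MulAut.conj x⁻¹).injective, D.card_M]
    · rw [eH]
      rintro _ ⟨a, ha, rfl⟩ h4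
      have h5 : orderOf a = 4 := by
        rw [← h4]
        exact ((MulAut.conj x⁻¹).orderOf_eq a).symm
      have h6 : orderOf a ∣ (D.q + 1) / 2 := orderOf_dvd_of_pow_eq_one (D.M_pow ha)
      rw [h5] at h6
      omega

end ReeFull

end Cfsg.Agent.Lib.Helper8
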