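import Cfsg.Agent.Lib.Helper8.Ree.TB

/-! REE ladder, rung HA. -/

set_option autoImplicit false

namespace Cfsg.Agent.Lib.Helper8

open Cfsg.Agent.Lib.Helper46 Matrix

namespace ReeFull

variable {G : Type*} [Group G] {K : Type*} [Field K] (D : ReeFull G K)

/-! ### rung HA (torus) -/
theorem Hs_cyclic : IsCyclic D.Hs := by
  have := D.pk1_finite_K
  exact isCyclic_of_surjective D.H.rangeRestrict D.H.rangeRestrict_surjective

theorem ha_sq {z : Kˣ} (h2 : D.H z * D.H z ≠ 1) : (z : K) ^ 2 ≠ 1 := by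
  intro h
  apply h2
  rw [← map_mul]
  have : z * z = 1 := by
    ext
    simpa [pow_two] using h
  rw [this, map_one]

theorem cent_Hs {h : G} (hh : h ∈ D.Hs) (h2 : h * h ≠ 1) : Subgroup.centralizer ({h} : Set G) = D.Hs := by
  obtain ⟨z, rfl⟩ := hh
  have hz := D.ha_sq h2
  ext g
  rw [Subgroup.mem_centralizer_singleton_iff]
  constructor
  · intro hg
    exact D.cent_H hz hg
  · rintro ⟨w, rfl⟩
    exact D.H_comm _ _

theorem Hs_sq {h : G} (hh : h ∈ D.Hs) (h2 : h * h = 1) : h = 1 ∨ h = D.j := by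
  obtain ⟨z, rfl⟩ := hh
  have : z * z = 1 := D.H_inj (by rw [map_mul, h2, map_one])
  rcases pk3_unit_sq this with rfl | rfl
  · left; exact map_one _
  · right; rfl

theorem Hs_TI {h x : G} (hh : h ∈ D.Hs) (h2 : h * h ≠ 1) (hx : x * h * x⁻¹ ∈ D.Hs) :
    x ∈ Subgroup.normalizer (D.Hs : Set G) := by
  obtain ⟨z, rfl⟩ := hh
  have hz := D.ha_sq h2
  rcases D.norm_H hz hx with h | ⟨w, rfl⟩
  · exact Subgroup.le_normalizer h
  · exact mul_mem (Subgroup.le_normalizer ⟨w, rfl⟩) D.pk3_n_mem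

theorem normalizer_Us_eq : Subgroup.normalizer (D.Us : Set G) = D.Bs := by
  ext g
  constructor
  · intro hg
    exact D.normalizer_Us (fun x hx => (Subgroup.mem_normalizer_iff.1 hg x).1 hx)
  · rintro ⟨x, hx, z, rfl⟩
    refine mul_mem (Subgroup.le_normalizer hx) ?_
    rw [Subgroup.mem_normalizer_iff]
    intro y
    constructor
    · intro hy
      exact D.H_conj_mem z hy
    · intro hy
      have := D.H_conj_mem' z hy
      have e : (D.H z)⁻¹ * (D.H z * y * (D.H z)⁻¹) * D.H z = y := by group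
      rwa [e] at this

end ReeFull

end Cfsg.Agent.Lib.Helper8
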