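import Cfsg.Agent.Lib.Helper8.Ree.S0E

/-! REE ladder, rung MA. -/

set_option autoImplicit false

namespace Cfsg.Agent.Lib.Helper8

open Cfsg.Agent.Lib.Helper46 Matrix

section MAabs

variable {G : Type*} [Group G]

/-- number of elements of order `d` in a cyclic subgroup. -/
theorem ma_cnt {y : G} {n d : ℕ} (hn : orderOf y = n) (hn0 : 0 < n) (hd : d ∣ n) :
    {c | c ∈ Subgroup.zpowers y ∧ orderOf c = d}.ncard = Nat.totient d := by
  classical
  have : Finite (Subgroup.zpowers y) := by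
    apply Nat.finite_of_card_ne_zero
    rw [Nat.card_zpowers, hn]
    exact hn0.ne'
  let _ := Fintype.ofFinite (Subgroup.zpowers y)
  have h1 := IsCyclic.card_orderOf_eq_totient (α := Subgroup.zpowers y) (d := d)
    (by rw [← Nat.card_eq_fintype_card, Nat.card_zpowers, hn]; exact hd)
  rw [← h1]
  have h2 : {c | c ∈ Subgroup.zpowers y ∧ orderOf c = d} = Subtype.val ''
      (((Finset.univ.filter (fun a : Subgroup.zpowers y => orderOf a = d) :
        Finset (Subgroup.zpowers y))) : Set (Subgroup.zpowers y)) := by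
    ext c
    constructor
    · rintro ⟨hc, ho⟩
      refine ⟨⟨c, hc⟩, ?_, rfl⟩
      simp only [Finset.coe_filter, Finset.mem_univ, true_and, Set.mem_ofPred_eq]
      rw [Subgroup.orderOf_mk]
      exact ho
    · rintro ⟨a, ha, rfl⟩
      simp only [Finset.coe_filter, Finset.mem_univ, true_and, Set.mem_ofPred_eq] at ha
      exact ⟨a.2, by rw [Subgroup.orderOf_coe]; exact ha⟩
  rw [h2, Set.ncard_image_of_injective _ Subtype.val_injective, Set.ncard_coe_finset]

/-- the abstract situation `⟨j⟩ × ⟨y⟩`, `o(j) = 2`, `o(y) = 2k`, `k` odd. -/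
structure MaHyp (j y : G) (k : ℕ) : Prop where
  j2 : j * j = 1
  comm : j * y = y * j
  ord : orderOf y = 2 * k
  odd : Odd k
  notin : j ∉ Subgroup.zpowers y

variable {j y : G} {k : ℕ}

theorem MaHyp.comm_c (h : MaHyp j y k) {c : G} (hc : c ∈ Subgroup.zpowers y) : j * c = c * j := by
  obtain ⟨n, rfl⟩ := hc
  exact (Commute.zpow_right (show Commute j y from h.comm) n).eq

theorem MaHyp.mem_zj (h : MaHyp j y k) {a : G} (ha : a ∈ Subgroup.zpowers j) : a = 1 ∨ a = j := by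
  obtain ⟨n, rfl⟩ := ha
  have hj2 : j ^ (2 : ℤ) = 1 := by
    rw [show (2 : ℤ) = ((2 : ℕ) : ℤ) from rfl, zpow_natCast, pow_two]; exact h.j2
  rcases Int.even_or_odd' n with ⟨m, rfl | rfl⟩
  · left; show j ^ (2 * m) = 1; rw [_root_.zpow_mul, hj2, _root_.one_zpow]
  · right; show j ^ (2 * m + 1) = j; rw [_root_.zpow_add, _root_.zpow_mul, hj2, _root_.one_zpow, one_mul, zpow_one]

theorem MaHyp.mem (h : MaHyp j y k) {g : G} :
    g ∈ Subgroup.zpowers j ⊔ Subgroup.zpowers y ↔ ∃ c ∈ Subgroup.zpowers y, g = c ∨ g = j * c := by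
  have hcomm : ∀ (m : Subgroup.zpowers j) (n : Subgroup.zpowers y),
      Commute ((Subgroup.zpowers j).subtype m) ((Subgroup.zpowers y).subtype n) := by
    intro m n
    rcases h.mem_zj m.2 with h1 | h1
    · show Commute (m : G) (n : G)
      rw [h1]; exact Commute.one_left _
    · show Commute (m : G) (n : G)
      rw [h1]; exact h.comm_c n.2
  have hr := MonoidHom.noncommCoprod_range (Subgroup.zpowers j).subtype (Subgroup.zpowers y).subtype hcomm
  rw [Subgroup.range_subtype, Subgroup.range_subtype] at hr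
  rw [← hr]
  constructor
  · rintro ⟨⟨a, c⟩, rfl⟩
    refine ⟨c, c.2, ?_⟩
    rw [MonoidHom.noncommCoprod_apply]
    rcases h.mem_zj a.2 with h1 | h1
    · left; show (a : G) * (c : G) = c; rw [h1, one_mul]
    · right; show (a : G) * (c : G) = j * c; rw [h1]
  · rintro ⟨c, hc, h1 | h1⟩
    · exact ⟨(1, ⟨c, hc⟩), by rw [MonoidHom.noncommCoprod_apply, h1]; simp⟩
    · exact ⟨(⟨j, Subgroup.mem_zpowers j⟩, ⟨c, hc⟩), by rw [MonoidHom.noncommCoprod_apply, h1]; simp⟩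

theorem MaHyp.j_pow (h : MaHyp j y k) (n : ℕ) : j ^ n = if Even n then 1 else j := by
  have hj2 : j ^ 2 = 1 := by rw [pow_two]; exact h.j2
  rcases Nat.even_or_odd' n with ⟨m, rfl | rfl⟩
  · rw [if_pos (even_two_mul m), pow_mul, hj2, one_pow]
  · rw [if_neg (by simp), pow_succ, pow_mul, hj2, one_pow, one_mul]

theorem MaHyp.jc_pow (h : MaHyp j y k) {c : G} (hc : c ∈ Subgroup.zpowers y) (n : ℕ) :
    (j * c) ^ n = 1 ↔ Even n ∧ c ^ n = 1 := by
  rw [(show Commute j c from h.comm_c hc).mul_pow, h.j_pow]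
  by_cases hn : Even n
  · rw [if_pos hn, one_mul]; exact ⟨fun h1 => ⟨hn, h1⟩, fun h1 => h1.2⟩
  · rw [if_neg hn]
    constructor
    · intro h1
      exfalso
      apply h.notin
      rw [eq_inv_of_mul_eq_one_left h1]
      exact inv_mem (pow_mem hc n)
    · intro h1; exact absurd h1.1 hn

theorem MaHyp.order_jc (h : MaHyp j y k) {c : G} (hc : c ∈ Subgroup.zpowers y) :
    orderOf (j * c) = Nat.lcm 2 (orderOf c) := by
  have key : ∀ n, (j * c) ^ n = 1 ↔ Nat.lcm 2 (orderOf c) ∣ n := by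
    intro n
    rw [h.jc_pow hc, Nat.lcm_dvd_iff, even_iff_two_dvd, orderOf_dvd_iff_pow_eq_one]
  exact Nat.dvd_antisymm (orderOf_dvd_of_pow_eq_one ((key _).2 dvd_rfl))
    ((key _).1 (pow_orderOf_eq_one _))

theorem MaHyp.k_pos (h : MaHyp j y k) : 0 < k := h.odd.pos

theorem MaHyp.card_order (h : MaHyp j y k) {i : ℕ} (hi : i ∣ k) :
    {t | t ∈ Subgroup.zpowers j ⊔ Subgroup.zpowers y ∧ orderOf t = i}.ncard = Nat.totient i ∧
      {t | t ∈ Subgroup.zpowers j ⊔ Subgroup.zpowers y ∧ orderOf t = 2 * i}.ncard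
        = 3 * Nat.totient i := by
  have hiodd : Odd i := Odd.of_dvd_nat h.odd hi
  have hn0 : 0 < 2 * k := by have := h.k_pos; omega
  have c1 := ma_cnt h.ord hn0 (Dvd.dvd.mul_left hi 2)
  have c2 := ma_cnt h.ord hn0 (Nat.mul_dvd_mul_left 2 hi)
  have ht : Nat.totient (2 * i) = Nat.totient i := by
    rw [Nat.totient_mul (Nat.coprime_two_left.2 hiodd), Nat.totient_two, one_mul]
  rw [ht] at c2
  have hfin : ∀ d, {c | c ∈ Subgroup.zpowers y ∧ orderOf c = d}.Finite := by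
    intro d
    have : Finite (Subgroup.zpowers y) := by
      apply Nat.finite_of_card_ne_zero
      rw [Nat.card_zpowers, h.ord]
      exact hn0.ne'
    exact Set.Finite.subset (Set.toFinite (Subgroup.zpowers y : Set G)) (fun c hc => hc.1)
  constructor
  · rw [← c1]
    congr 1
    ext t
    constructor
    · rintro ⟨ht, ho⟩
      obtain ⟨c, hc, rfl | rfl⟩ := h.mem.1 ht
      · exact ⟨hc, ho⟩
      · exfalso
        rw [h.order_jc hc] at ho
        have : 2 ∣ i := ho ▸ Nat.dvd_lcm_left 2 _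
        exact (Nat.not_even_iff_odd.2 hiodd) (even_iff_two_dvd.2 this)
    · rintro ⟨ht, ho⟩
      exact ⟨h.mem.2 ⟨t, ht, Or.inl rfl⟩, ho⟩
  · have hset : {t | t ∈ Subgroup.zpowers j ⊔ Subgroup.zpowers y ∧ orderOf t = 2 * i} =
        {c | c ∈ Subgroup.zpowers y ∧ orderOf c = 2 * i} ∪
        ((fun c => j * c) '' {c | c ∈ Subgroup.zpowers y ∧ orderOf c = i} ∪
         (fun c => j * c) '' {c | c ∈ Subgroup.zpowers y ∧ orderOf c = 2 * i}) := by
      ext t
      constructor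
      · rintro ⟨ht, ho⟩
        obtain ⟨c, hc, rfl | rfl⟩ := h.mem.1 ht
        · exact Or.inl ⟨hc, ho⟩
        · right
          rw [h.order_jc hc] at ho
          rcases Nat.even_or_odd (orderOf c) with he | hodd
          · right
            refine ⟨c, ⟨hc, ?_⟩, rfl⟩
            rw [← ho]
            exact (Nat.lcm_eq_right (even_iff_two_dvd.1 he)).symm
          · left
            refine ⟨c, ⟨hc, ?_⟩, rfl⟩
            rw [Nat.Coprime.lcm_eq_mul (Nat.coprime_two_left.2 hodd)] at ho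
            omega
      · rintro (⟨hc, ho⟩ | ⟨c, ⟨hc, ho⟩, rfl⟩ | ⟨c, ⟨hc, ho⟩, rfl⟩)
        · exact ⟨h.mem.2 ⟨t, hc, Or.inl rfl⟩, ho⟩
        · refine ⟨h.mem.2 ⟨c, hc, Or.inr rfl⟩, ?_⟩
          show orderOf (j * c) = 2 * i
          rw [h.order_jc hc, ho, Nat.Coprime.lcm_eq_mul (Nat.coprime_two_left.2 hiodd)]
        · refine ⟨h.mem.2 ⟨c, hc, Or.inr rfl⟩, ?_⟩
          show orderOf (j * c) = 2 * i
          rw [h.order_jc hc, ho]
          exact Nat.lcm_eq_right (Dvd.intro i rfl)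
    have hi0 : 0 < i := hiodd.pos
    have d1 : Disjoint ((fun c => j * c) '' {c | c ∈ Subgroup.zpowers y ∧ orderOf c = i})
        ((fun c => j * c) '' {c | c ∈ Subgroup.zpowers y ∧ orderOf c = 2 * i}) := by
      rw [Set.disjoint_left]
      rintro _ ⟨c, ⟨_, ho⟩, rfl⟩ ⟨c', ⟨_, ho'⟩, h2⟩
      have : c' = c := mul_right_injective j h2
      rw [this, ho] at ho'
      omega
    have d2 : Disjoint {c | c ∈ Subgroup.zpowers y ∧ orderOf c = 2 * i}
        ((fun c => j * c) '' {c | c ∈ Subgroup.zpowers y ∧ orderOf c = i} ∪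
         (fun c => j * c) '' {c | c ∈ Subgroup.zpowers y ∧ orderOf c = 2 * i}) := by
      rw [Set.disjoint_left]
      rintro t ⟨hc, _⟩ (⟨c, ⟨hc', _⟩, h2⟩ | ⟨c, ⟨hc', _⟩, h2⟩)
      · apply h.notin
        have : j = t * c⁻¹ := by rw [← h2]; group
        rw [this]; exact mul_mem hc (inv_mem hc')
      · apply h.notin
        have : j = t * c⁻¹ := by rw [← h2]; group
        rw [this]; exact mul_mem hc (inv_mem hc')
    rw [hset, Set.ncard_union_eq d2 (hfin _) (((hfin _).image _).union ((hfin _).image _)),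
      Set.ncard_union_eq d1 ((hfin _).image _) ((hfin _).image _),
      Set.ncard_image_of_injective _ (mul_right_injective j),
      Set.ncard_image_of_injective _ (mul_right_injective j), c1, c2]
    ring

theorem MaHyp.c_pow (h : MaHyp j y k) {c : G} (hc : c ∈ Subgroup.zpowers y) : c ^ (2 * k) = 1 := by
  obtain ⟨n, rfl⟩ := hc
  show (y ^ n) ^ (2 * k) = 1
  rw [← zpow_natCast, ← _root_.zpow_mul, mul_comm, _root_.zpow_mul, zpow_natCast, ← h.ord,
    pow_orderOf_eq_one, _root_.one_zpow]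

theorem MaHyp.pow (h : MaHyp j y k) {t : G} (ht : t ∈ Subgroup.zpowers j ⊔ Subgroup.zpowers y) :
    t ^ (2 * k) = 1 := by
  obtain ⟨c, hc, rfl | rfl⟩ := h.mem.1 ht
  · exact h.c_pow hc
  · exact (h.jc_pow hc _).2 ⟨even_two_mul k, h.c_pow hc⟩

theorem MaHyp.cc_comm {c c' : G} (hc : c ∈ Subgroup.zpowers y) (hc' : c' ∈ Subgroup.zpowers y) :
    c * c' = c' * c := by
  obtain ⟨n, rfl⟩ := hc
  obtain ⟨m, rfl⟩ := hc'
  show y ^ n * y ^ m = y ^ m * y ^ n
  rw [← _root_.zpow_add, ← _root_.zpow_add, add_comm]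

theorem MaHyp.M_comm (h : MaHyp j y k) {a b : G} (ha : a ∈ Subgroup.zpowers j ⊔ Subgroup.zpowers y)
    (hb : b ∈ Subgroup.zpowers j ⊔ Subgroup.zpowers y) : a * b = b * a := by
  obtain ⟨c, hc, rfl | rfl⟩ := h.mem.1 ha <;> obtain ⟨c', hc', rfl | rfl⟩ := h.mem.1 hb
  · exact MaHyp.cc_comm hc hc'
  · rw [← mul_assoc, ← h.comm_c hc, mul_assoc, mul_assoc, MaHyp.cc_comm hc hc']
  · rw [← mul_assoc, ← h.comm_c hc', mul_assoc, mul_assoc, MaHyp.cc_comm hc hc']
  · rw [mul_assoc, mul_assoc, ← mul_assoc c, ← mul_assoc c', ← h.comm_c hc, ← h.comm_c hc',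
      mul_assoc, mul_assoc, MaHyp.cc_comm hc hc']

theorem MaHyp.card (h : MaHyp j y k) :
    Nat.card (Subgroup.zpowers j ⊔ Subgroup.zpowers y : Subgroup G) = 4 * k := by
  have hn0 : 0 < 2 * k := by have := h.k_pos; omega
  have hfin : ((Subgroup.zpowers y : Subgroup G) : Set G).Finite := by
    have : Finite (Subgroup.zpowers y) := by
      apply Nat.finite_of_card_ne_zero
      rw [Nat.card_zpowers, h.ord]
      exact hn0.ne'
    exact Set.toFinite _
  have hset : ((Subgroup.zpowers j ⊔ Subgroup.zpowers y : Subgroup G) : Set G) =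
      ((Subgroup.zpowers y : Subgroup G) : Set G) ∪
        (fun c => j * c) '' ((Subgroup.zpowers y : Subgroup G) : Set G) := by
    ext t
    rw [SetLike.mem_coe, h.mem]
    constructor
    · rintro ⟨c, hc, rfl | rfl⟩
      · exact Or.inl hc
      · exact Or.inr ⟨c, hc, rfl⟩
    · rintro (hc | ⟨c, hc, rfl⟩)
      · exact ⟨t, hc, Or.inl rfl⟩
      · exact ⟨c, hc, Or.inr rfl⟩
  have d : Disjoint ((Subgroup.zpowers y : Subgroup G) : Set G)
      ((fun c => j * c) '' ((Subgroup.zpowers y : Subgroup G) : Set G)) := by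
    rw [Set.disjoint_left]
    rintro t hc ⟨c, hc', h2⟩
    apply h.notin
    have : j = t * c⁻¹ := by rw [← h2]; group
    rw [this]; exact mul_mem hc (inv_mem hc')
  have e : ((Subgroup.zpowers y : Subgroup G) : Set G).ncard = 2 * k := by
    rw [← h.ord, ← Nat.card_zpowers]
    exact (Nat.card_coe_set_eq _)
  have e0 : Nat.card (Subgroup.zpowers j ⊔ Subgroup.zpowers y : Subgroup G) =
      ((Subgroup.zpowers j ⊔ Subgroup.zpowers y : Subgroup G) : Set G).ncard :=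
    (Nat.card_coe_set_eq _)
  rw [e0, hset, Set.ncard_union_eq d hfin (hfin.image _),
    Set.ncard_image_of_injective _ (mul_right_injective j), e]
  ring

theorem MaHyp.card_sq (h : MaHyp j y k) :
    {t | t ∈ Subgroup.zpowers j ⊔ Subgroup.zpowers y ∧ t * t = 1}.ncard = 4 := by
  obtain ⟨h1, h2⟩ := h.card_order (one_dvd k)
  rw [Nat.totient_one] at h1 h2
  have hfinM : ((Subgroup.zpowers j ⊔ Subgroup.zpowers y : Subgroup G) : Set G).Finite := by
    have : Finite (Subgroup.zpowers j ⊔ Subgroup.zpowers y : Subgroup G) := by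
      apply Nat.finite_of_card_ne_zero
      rw [h.card]
      have := h.k_pos; omega
    exact Set.toFinite _
  have hset : {t | t ∈ Subgroup.zpowers j ⊔ Subgroup.zpowers y ∧ t * t = 1} =
      {t | t ∈ Subgroup.zpowers j ⊔ Subgroup.zpowers y ∧ orderOf t = 1} ∪
      {t | t ∈ Subgroup.zpowers j ⊔ Subgroup.zpowers y ∧ orderOf t = 2 * 1} := by
    ext t
    constructor
    · rintro ⟨ht, h3⟩
      have h4 : orderOf t ∣ 2 := orderOf_dvd_of_pow_eq_one (by rw [pow_two]; exact h3)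
      rcases (Nat.dvd_prime Nat.prime_two).1 h4 with h5 | h5
      · exact Or.inl ⟨ht, h5⟩
      · exact Or.inr ⟨ht, h5⟩
    · rintro (⟨ht, h3⟩ | ⟨ht, h3⟩)
      · refine ⟨ht, ?_⟩
        rw [orderOf_eq_one_iff] at h3
        rw [h3, one_mul]
      · refine ⟨ht, ?_⟩
        rw [← pow_two]
        have := pow_orderOf_eq_one t
        rwa [h3] at this
  rw [hset, Set.ncard_union_eq _ (hfinM.subset (fun t ht => ht.1)) (hfinM.subset (fun t ht => ht.1)),
    h1, h2]
  rw [Set.disjoint_left]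
  rintro t ⟨_, h3⟩ ⟨_, h4⟩
  omega

theorem MaHyp.card_T (h : MaHyp j y k) : Nat.card (Subgroup.zpowers (y ^ 2)) = k := by
  rw [Nat.card_zpowers, orderOf_pow_of_dvd two_ne_zero (by rw [h.ord]; exact Dvd.intro k rfl), h.ord]
  omega

theorem MaHyp.mem_T (h : MaHyp j y k) {t : G} : t ∈ Subgroup.zpowers (y ^ 2) ↔
    t ∈ Subgroup.zpowers j ⊔ Subgroup.zpowers y ∧ t ^ k = 1 := by
  constructor
  · rintro ⟨n, rfl⟩
    refine ⟨h.mem.2 ⟨_, ⟨2 * n, ?_⟩, Or.inl rfl⟩, ?_⟩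
    · show y ^ (2 * n) = (y ^ 2) ^ n
      rw [_root_.zpow_mul, show (2 : ℤ) = ((2 : ℕ) : ℤ) from rfl, zpow_natCast]
    · show ((y ^ 2) ^ n) ^ k = 1
      rw [← zpow_natCast, ← _root_.zpow_mul, mul_comm, _root_.zpow_mul, zpow_natCast, ← pow_mul, ← h.ord,
        pow_orderOf_eq_one, _root_.one_zpow]
  · rintro ⟨ht, hk⟩
    obtain ⟨c, hc, rfl | rfl⟩ := h.mem.1 ht
    · obtain ⟨n, rfl⟩ := hc
      have h1 : (y ^ n) ^ k = 1 := hk
      rw [← zpow_natCast, ← _root_.zpow_mul] at h1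
      have h2 := orderOf_dvd_iff_zpow_eq_one.2 h1
      rw [h.ord] at h2
      have hk0 : (k : ℤ) ≠ 0 := by have := h.k_pos; omega
      have h3 : (2 : ℤ) ∣ n := by
        have : ((2 : ℤ) * k) ∣ n * k := by exact_mod_cast h2
        exact Int.dvd_of_mul_dvd_mul_right hk0 this
      obtain ⟨m, rfl⟩ := h3
      refine ⟨m, ?_⟩
      show (y ^ 2) ^ m = y ^ (2 * m)
      rw [_root_.zpow_mul, show (2 : ℤ) = ((2 : ℕ) : ℤ) from rfl, zpow_natCast]
    · exfalso
      have := ((h.jc_pow hc k).1 hk).1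
      exact (Nat.not_even_iff_odd.2 h.odd) this

end MAabs

namespace ReeFull

variable {G : Type*} [Group G] {K : Type*} [Field K] (D : ReeFull G K)

theorem ma_q : D.q + 1 = 4 * ((D.q + 1) / 4) ∧ Odd ((D.q + 1) / 4) ∧
    (D.q + 1) / 2 = 2 * ((D.q + 1) / 4) := by
  have h := D.q_mod_eight
  refine ⟨by omega, ?_, by omega⟩
  rw [Nat.odd_iff]; omega

theorem ma_φ_of_sq {z : SpecialLinearGroup (Fin 2) K} (h : z * z = 1) : D.φ z = 1 :=
  D.φ_eq_one_iff.2 (eq_one_or_negOne_of_mem_center z (mem_center_of_sq_eq_one D.two_ne_zero' z h))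

theorem ma_order_X0 : orderOf D.X0 = 4 * ((D.q + 1) / 4) := by
  rw [← Nat.card_zpowers, D.X0_card]; exact D.ma_q.1

theorem ma_order : orderOf (D.φ D.X0) = 2 * ((D.q + 1) / 4) := by
  set k := (D.q + 1) / 4 with hk
  apply Nat.dvd_antisymm
  · apply orderOf_dvd_of_pow_eq_one
    rw [← map_pow]
    apply D.ma_φ_of_sq
    rw [← pow_add, show 2 * k + 2 * k = 4 * k by ring, ← D.ma_order_X0, pow_orderOf_eq_one]
  · have h1 : D.φ (D.X0 ^ orderOf (D.φ D.X0)) = 1 := by rw [map_pow, pow_orderOf_eq_one]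
    have h2 : (D.X0 ^ orderOf (D.φ D.X0)) * (D.X0 ^ orderOf (D.φ D.X0)) = 1 := by
      rcases D.φ_eq_one_iff.1 h1 with h | h
      · rw [h, one_mul]
      · rw [h]; exact negOne_mul_self
    rw [← pow_add] at h2
    have h3 := orderOf_dvd_of_pow_eq_one h2
    rw [D.ma_order_X0] at h3
    obtain ⟨c, hc⟩ := h3
    refine ⟨c, ?_⟩
    have h4 : 2 * orderOf (D.φ D.X0) = 2 * (2 * k * c) := by
      rw [two_mul, hc]; ring
    exact Nat.eq_of_mul_eq_mul_left two_pos h4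

theorem ma_hyp : MaHyp D.j (D.φ D.X0) ((D.q + 1) / 4) where
  j2 := D.j_sq
  comm := (D.φ_comm_j D.X0).symm
  ord := D.ma_order
  odd := D.ma_q.2.1
  notin := by
    rintro ⟨n, hn⟩
    apply D.φ_ne_j (D.X0 ^ n)
    rw [map_zpow]; exact hn

theorem ma_M_eq : D.M = Subgroup.zpowers D.j ⊔ Subgroup.zpowers (D.φ D.X0) := by
  unfold M
  rw [MonoidHom.map_zpowers]

/-! ### rung MA (structure of M = ⟨j⟩ × φ⟨X0⟩ ≅ 2 × 2 × (q+1)/4) -/
theorem mem_M {g : G} : g ∈ D.M ↔ ∃ x ∈ Subgroup.zpowers D.X0, g = D.φ x ∨ g = D.j * D.φ x := by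
  rw [D.ma_M_eq, D.ma_hyp.mem]
  constructor
  · rintro ⟨c, ⟨n, rfl⟩, h⟩
    refine ⟨D.X0 ^ n, ⟨n, rfl⟩, ?_⟩
    rw [map_zpow]; exact h
  · rintro ⟨x, ⟨n, rfl⟩, h⟩
    refine ⟨D.φ (D.X0 ^ n), ⟨n, ?_⟩, h⟩
    show D.φ D.X0 ^ n = D.φ (D.X0 ^ n)
    rw [map_zpow]
theorem card_M : Nat.card D.M = D.q + 1 := by
  rw [D.ma_M_eq, D.ma_hyp.card]; exact D.ma_q.1.symm
theorem M_comm {x y : G} (hx : x ∈ D.M) (hy : y ∈ D.M) : x * y = y * x := by
  rw [D.ma_M_eq] at hx hy
  exact D.ma_hyp.M_comm hx hy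
theorem j_mem_M : D.j ∈ D.M := by
  unfold M
  exact Subgroup.mem_sup_left (Subgroup.mem_zpowers _)
theorem M_pow {t : G} (ht : t ∈ D.M) : t ^ ((D.q + 1) / 2) = 1 := by
  rw [D.ma_M_eq] at ht
  rw [D.ma_q.2.2]
  exact D.ma_hyp.pow ht
theorem exists_M_order : ∃ t ∈ D.M, orderOf t = (D.q + 1) / 2 := by
  refine ⟨D.φ D.X0, ?_, ?_⟩
  · rw [D.ma_M_eq]; exact Subgroup.mem_sup_right (Subgroup.mem_zpowers _)
  · rw [D.ma_order, D.ma_q.2.2]
theorem card_M_sq : {t | t ∈ D.M ∧ t * t = 1}.ncard = 4 := by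
  rw [D.ma_M_eq]; exact D.ma_hyp.card_sq
theorem card_M_order {i : ℕ} (hi : i ∣ (D.q + 1) / 4) :
    {t | t ∈ D.M ∧ orderOf t = i}.ncard = Nat.totient i ∧
      {t | t ∈ D.M ∧ orderOf t = 2 * i}.ncard = 3 * Nat.totient i := by
  rw [D.ma_M_eq]; exact D.ma_hyp.card_order hi
/-- the cyclic subgroup of order `(q+1)/4`. -/
noncomputable def T0 : Subgroup G := Subgroup.zpowers (D.φ (D.X0 ^ 2))
theorem card_T0 : Nat.card D.T0 = (D.q + 1) / 4 := by
  unfold T0
  rw [map_pow]; exact D.ma_hyp.card_T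
theorem mem_T0 {t : G} : t ∈ D.T0 ↔ t ∈ D.M ∧ t ^ ((D.q + 1) / 4) = 1 := by
  unfold T0
  rw [map_pow, D.ma_M_eq]; exact D.ma_hyp.mem_T

end ReeFull

end Cfsg.Agent.Lib.Helper8
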