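import Cfsg.Agent.Lib.Helper8.Ree.MA

/-! REE ladder, rung MB. -/

set_option autoImplicit false

namespace Cfsg.Agent.Lib.Helper8

open Cfsg.Agent.Lib.Helper46 Matrix

namespace ReeFull

variable {G : Type*} [Group G] {K : Type*} [Field K] (D : ReeFull G K)

/-- the torus package of helper46 for `X0`. -/
theorem mb_torus : (∀ g ∈ Subgroup.zpowers D.X0, g ∉ Subgroup.center (SpecialLinearGroup (Fin 2) K) →
      Subgroup.centralizer ({g} : Set (SpecialLinearGroup (Fin 2) K)) = Subgroup.zpowers D.X0) ∧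
    Nat.card (Subgroup.normalizer (Subgroup.zpowers D.X0 : Set (SpecialLinearGroup (Fin 2) K))) =
        2 * Nat.card (Subgroup.zpowers D.X0) := by
  have := D.finK
  let _ := Fintype.ofFinite K
  have hc : Fintype.card K = D.q := by rw [← Nat.card_eq_fintype_card, D.hK]; rfl
  have hodd : Fintype.card K % 2 = 1 := by
    rw [hc]; unfold q
    rw [Nat.pow_mod]; norm_num
  obtain ⟨-, h2, h3, -, -⟩ := cyclic_torus hodd D.X0 D.X0_tr (fun h hh => D.X0_cent hh)
  exact ⟨h2, h3⟩

/-- if `φ s` and `φ τ` commute and `φ τ` is not an involution, then `s` and `τ` commute. -/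
theorem mb_comm {s τ : SpecialLinearGroup (Fin 2) K} (h : D.φ s * D.φ τ = D.φ τ * D.φ s)
    (h2 : D.φ τ * D.φ τ ≠ 1) : s * τ = τ * s := by
  have h1 : D.φ (s * τ * s⁻¹ * τ⁻¹) = 1 := by
    rw [map_mul, map_mul, map_mul, h, map_inv, map_inv]; group
  rcases D.φ_eq_one_iff.1 h1 with h3 | h3
  · have : s * τ = (s * τ * s⁻¹ * τ⁻¹) * (τ * s) := by group
    rw [this, h3, one_mul]
  · exfalso
    apply h2
    have h4 : s * τ * s⁻¹ = negOne * τ := by
      rw [← h3]; group
    have h5 : tr τ = - tr τ := by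
      rw [← tr_negOne_mul, ← h4, tr_conj]
    have h6 : tr τ = 0 := by
      have : (2 : K) * tr τ = 0 := by linear_combination h5
      exact (mul_eq_zero.1 this).resolve_left D.two_ne_zero'
    rw [← map_mul, sq_of_tr_zero τ h6]
    exact D.pk4_φ_negOne

/-! ### rung MB -/
theorem cent_j_M {t x : G} (ht : t ∈ D.M) (ht2 : t * t ≠ 1) (hj : x * D.j = D.j * x) (hx : x * t = t * x) :
    x ∈ D.M := by
  obtain ⟨τ, hτ, hτt⟩ := D.mem_M.1 ht
  obtain ⟨s, hs⟩ := D.cent_j_eq hj
  have hjj := D.j_sq
  -- `φ τ` is not an involution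
  have h2 : D.φ τ * D.φ τ ≠ 1 := by
    intro h
    apply ht2
    rcases hτt with rfl | rfl
    · exact h
    · calc D.j * D.φ τ * (D.j * D.φ τ) = D.j * (D.φ τ * D.j) * D.φ τ := by group
        _ = D.j * (D.j * D.φ τ) * D.φ τ := by rw [D.φ_comm_j]
        _ = (D.j * D.j) * (D.φ τ * D.φ τ) := by group
        _ = 1 := by rw [hjj, h, one_mul]
  -- `φ s` and `φ τ` commute
  have hxs : D.φ s = x ∨ D.φ s = D.j * x := by
    rcases hs with rfl | rfl
    · exact Or.inl rfl
    · right; rw [← mul_assoc, hjj, one_mul]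
  have hτt' : D.φ τ = t ∨ D.φ τ = D.j * t := by
    rcases hτt with rfl | rfl
    · exact Or.inl rfl
    · right; rw [← mul_assoc, hjj, one_mul]
  have htj : t * D.j = D.j * t := D.M_comm ht D.j_mem_M
  have h3 : D.φ s * D.φ τ = D.φ τ * D.φ s := by
    rcases hxs with h | h <;> rcases hτt' with h' | h' <;> rw [h, h']
    · exact hx
    · calc x * (D.j * t) = (x * D.j) * t := by group
        _ = D.j * (x * t) := by rw [hj]; group
        _ = D.j * t * x := by rw [hx]; group
    · calc D.j * x * t = D.j * (x * t) := by group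
        _ = (D.j * t) * x := by rw [hx]; group
        _ = t * (D.j * x) := by rw [← htj]; group
    · calc D.j * x * (D.j * t) = D.j * (x * D.j) * t := by group
        _ = D.j * D.j * (x * t) := by rw [hj]; group
        _ = D.j * (D.j * t) * x := by rw [hx]; group
        _ = D.j * (t * D.j) * x := by rw [htj]
        _ = D.j * t * (D.j * x) := by group
  have h4 := D.mb_comm h3 h2
  have hτc : τ ∉ Subgroup.center (SpecialLinearGroup (Fin 2) K) := by
    intro hc
    apply h2
    have := D.φ_eq_one_iff.2 (eq_one_or_negOne_of_mem_center τ hc)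
    rw [this, one_mul]
  have h5 := D.mb_torus.1 τ hτ hτc
  have h6 : s ∈ Subgroup.zpowers D.X0 := by
    rw [← h5, Subgroup.mem_centralizer_singleton_iff]
    exact h4
  exact D.mem_M.2 ⟨s, h6, hs⟩

end ReeFull

end Cfsg.Agent.Lib.Helper8
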