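import Cfsg.Agent.Lib.Helper8.Ree.TJ

/-! REE ladder, rung MD. -/

set_option autoImplicit false

namespace Cfsg.Agent.Lib.Helper8

open Cfsg.Agent.Lib.Helper46 Matrix

namespace ReeFull

variable {G : Type*} [Group G] {K : Type*} [Field K] (D : ReeFull G K)

theorem md_index : ¬ 3 ∣ D.Us.index := by
  have := D.finite_G
  have h1 := D.Us.card_mul_index
  rw [D.card_Us, D.card_G] at h1
  have hq : 0 < D.q ^ 3 := by have := D.q_ge; positivity
  have h2 : D.Us.index = (D.q ^ 3 + 1) * (D.q - 1) := by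
    apply Nat.eq_of_mul_eq_mul_left hq
    rw [h1]; ring
  rw [h2]
  obtain ⟨a, ha⟩ := D.three_dvd_q
  have hq1 := D.q_ge
  intro h3
  rcases (Nat.Prime.dvd_mul Nat.prime_three).1 h3 with h | h
  · have h4 : 3 ∣ D.q ^ 3 := Dvd.dvd.trans D.three_dvd_q (dvd_pow_self _ (by norm_num))
    have := (Nat.dvd_add_right h4).1 h
    omega
  · omega

/-! ### rung MD -/
theorem three_conj {x : G} {k : ℕ} (hx : x ^ (3 ^ k) = 1) : ∃ g, g * x * g⁻¹ ∈ D.Us := by
  have := D.finite_G
  exact conj_into D.Us Nat.prime_three D.md_index hx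
theorem three_not_dvd_cent {y : G} (h1 : y ≠ 1) (hy : y ^ ((D.q + 1) / 4) = 1) :
    ¬ 3 ∣ Nat.card (Subgroup.centralizer ({y} : Set G)) := by
  have := D.finite_G
  intro h3
  have : Fact (Nat.Prime 3) := ⟨Nat.prime_three⟩
  obtain ⟨c, hc⟩ := exists_prime_orderOf_dvd_card' (G := Subgroup.centralizer ({y} : Set G)) 3 h3
  have hc3 : (c : G) ^ (3 ^ 1) = 1 := by
    have := pow_orderOf_eq_one c
    rw [hc] at this
    rw [pow_one]
    exact_mod_cast congrArg Subtype.val this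
  have hc1 : (c : G) ≠ 1 := by
    intro h
    have : c = 1 := Subtype.ext h
    rw [this, orderOf_one] at hc
    omega
  obtain ⟨g, hg⟩ := D.three_conj hc3
  have hcy : (c : G) * y = y * c := Subgroup.mem_centralizer_singleton_iff.1 c.2
  have hu1 : g * (c : G) * g⁻¹ ≠ 1 := by
    intro h
    apply hc1
    have : (c : G) = g⁻¹ * (g * (c : G) * g⁻¹) * g := by group
    rw [this, h]; group
  have hB : g * y * g⁻¹ ∈ D.Bs := by
    apply D.cent_le_Bs hg hu1
    calc g * y * g⁻¹ * (g * (c : G) * g⁻¹) = g * (y * c) * g⁻¹ := by group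
      _ = g * (c * y) * g⁻¹ := by rw [hcy]
      _ = g * (c : G) * g⁻¹ * (g * y * g⁻¹) := by group
  have ho : orderOf (g * y * g⁻¹) = orderOf y := by
    have := orderOf_injective (MulAut.conj g).toMonoidHom (MulAut.conj g).injective y
    simpa [MulAut.conj_apply] using this
  have h4 : orderOf y ∣ D.q ^ 3 * (D.q - 1) := by
    rw [← ho, ← D.card_Bs]
    have := orderOf_dvd_natCard (⟨g * y * g⁻¹, hB⟩ : D.Bs)
    rwa [Subgroup.orderOf_mk] at this
  have h5 : orderOf y ∣ (D.q + 1) / 4 := orderOf_dvd_of_pow_eq_one hy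
  have h6 : orderOf y ∣ 2 * D.q ^ 3 * (D.q - 1) * (D.q ^ 2 - D.q + 1) := by
    refine Dvd.dvd.trans h4 ⟨2 * (D.q ^ 2 - D.q + 1), by ring⟩
  have h7 := Nat.eq_one_of_dvd_coprimes D.coprime_plus h5 h6
  exact h1 (orderOf_eq_one_iff.1 h7)

end ReeFull

end Cfsg.Agent.Lib.Helper8
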