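import Cfsg.Agent.Lib.Helper8.Ree.MD

/-! REE ladder, rung ME. -/

set_option autoImplicit false

namespace Cfsg.Agent.Lib.Helper8

open Cfsg.Agent.Lib.Helper46 Matrix

theorem me_conj_comm {G : Type*} [Group G] {x b : G} (k : G) (h : x * b = b * x) :
    k * x * k⁻¹ * (k * b * k⁻¹) = k * b * k⁻¹ * (k * x * k⁻¹) := by
  calc k * x * k⁻¹ * (k * b * k⁻¹) = k * (x * b) * k⁻¹ := by group
    _ = k * (b * x) * k⁻¹ := by rw [h]
    _ = k * b * k⁻¹ * (k * x * k⁻¹) := by group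

theorem me_conj_sq {G : Type*} [Group G] {t : G} (k : G) (h : t * t ≠ 1) :
    k * t * k⁻¹ * (k * t * k⁻¹) ≠ 1 := by
  intro h1
  apply h
  have : t * t = k⁻¹ * (k * t * k⁻¹ * (k * t * k⁻¹)) * k := by group
  rw [this, h1]; group

theorem me_orderOf_conj {G : Type*} [Group G] (g y : G) : orderOf (g * y * g⁻¹) = orderOf y := by
  have := orderOf_injective (MulAut.conj g).toMonoidHom (MulAut.conj g).injective y
  simpa [MulAut.conj_apply] using this

namespace ReeFull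

variable {G : Type*} [Group G] {K : Type*} [Field K] (D : ReeFull G K)

/-- an element of odd order of `M`. -/
theorem me_exists_t : ∃ t ∈ D.M, t ≠ 1 ∧ t ^ ((D.q + 1) / 4) = 1 := by
  have h1 := D.card_T0
  have hq := D.q_ge
  have h2 : D.T0 ≠ ⊥ := by
    intro h
    rw [h, Subgroup.card_bot] at h1
    omega
  obtain ⟨t, ht, ht1⟩ := (Subgroup.ne_bot_iff_exists_ne_one).1 h2 |>.elim
    (fun t ht => (⟨(t : G), t.2, fun h => ht (Subtype.ext h)⟩ : ∃ t ∈ D.T0, t ≠ 1))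
  exact ⟨t, (D.mem_T0.1 ht).1, ht1, (D.mem_T0.1 ht).2⟩

theorem me_sq_ne {t : G} (h1 : t ≠ 1) (h : t ^ ((D.q + 1) / 4) = 1) : t * t ≠ 1 := by
  intro h2
  apply h1
  have h3 : orderOf t ∣ 2 := orderOf_dvd_of_pow_eq_one (by rw [pow_two]; exact h2)
  have h4 : orderOf t ∣ (D.q + 1) / 4 := orderOf_dvd_of_pow_eq_one h
  have h5 : Nat.Coprime 2 ((D.q + 1) / 4) := Nat.coprime_two_left.2 D.ma_q.2.1
  exact orderOf_eq_one_iff.1 (Nat.eq_one_of_dvd_coprimes h5 h3 h4)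

theorem me_not_Bs {t : G} (h1 : t ≠ 1) (h : t ^ ((D.q + 1) / 4) = 1) : t ∉ D.Bs := by
  intro hB
  apply h1
  have h4 : orderOf t ∣ D.q ^ 3 * (D.q - 1) := by
    rw [← D.card_Bs]
    have := orderOf_dvd_natCard (⟨t, hB⟩ : D.Bs)
    rwa [Subgroup.orderOf_mk] at this
  have h5 : orderOf t ∣ (D.q + 1) / 4 := orderOf_dvd_of_pow_eq_one h
  have h6 : orderOf t ∣ 2 * D.q ^ 3 * (D.q - 1) * (D.q ^ 2 - D.q + 1) := by
    refine Dvd.dvd.trans h4 ⟨2 * (D.q ^ 2 - D.q + 1), by ring⟩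
  exact orderOf_eq_one_iff.1 (Nat.eq_one_of_dvd_coprimes D.coprime_plus h5 h6)

/-! ### rung ME (helper42's CM) -/
theorem M_fuse {b : G} (hb : b ∈ D.M) (hb1 : b ≠ 1) (hb2 : b * b = 1) :
    ∃ k ∈ Subgroup.normalizer (D.M : Set G), k * b * k⁻¹ = D.j := by
  have := D.finite_G
  obtain ⟨t, ht, ht1, htk⟩ := D.me_exists_t
  obtain ⟨g, hg⟩ := D.invol_conj hb1 hb2
  have htb : t * b = b * t := D.M_comm ht hb
  have h1 : g * t * g⁻¹ * D.j = D.j * (g * t * g⁻¹) := by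
    rw [← hg]; exact me_conj_comm g htb
  obtain ⟨s, hs⟩ := D.type_cent_j h1
  have e1 : D.φ s * (g * t * g⁻¹) * (D.φ s)⁻¹ = (D.φ s * g) * t * (D.φ s * g)⁻¹ := by group
  rw [e1] at hs
  set k := D.φ s * g with hk
  have hkt1 : k * t * k⁻¹ ≠ 1 := by
    intro h
    apply ht1
    have : t = k⁻¹ * (k * t * k⁻¹) * k := by group
    rw [this, h]; group
  have hktk : (k * t * k⁻¹) ^ ((D.q + 1) / 4) = 1 := by
    rw [conj_pow, htk]; group
  have hktM : k * t * k⁻¹ ∈ D.M := hs.resolve_left (D.me_not_Bs hkt1 hktk)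
  have hkb : k * b * k⁻¹ = D.j := by
    calc k * b * k⁻¹ = D.φ s * (g * b * g⁻¹) * (D.φ s)⁻¹ := by rw [hk]; group
      _ = D.φ s * D.j * (D.φ s)⁻¹ := by rw [hg]
      _ = D.j := by rw [D.φ_comm_j]; group
  refine ⟨k, ?_, hkb⟩
  apply Subgroup.mem_normalizer_fintype
  intro m hm
  have hm' : m ∈ D.M := hm
  apply D.cent_j_M hktM (D.me_sq_ne hkt1 hktk)
  · rw [← hkb]; exact me_conj_comm k (D.M_comm hm' hb)
  · exact me_conj_comm k (D.M_comm hm' ht)

theorem me_cent_b {b t x : G} (hb : b ∈ D.M) (hb1 : b ≠ 1) (hb2 : b * b = 1) (ht : t ∈ D.M)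
    (ht2 : t * t ≠ 1) (hxb : x * b = b * x) (hxt : x * t = t * x) : x ∈ D.M := by
  obtain ⟨k, hk, hkb⟩ := D.M_fuse hb hb1 hb2
  have h1 : k * t * k⁻¹ ∈ D.M := (Subgroup.mem_normalizer_iff.1 hk t).1 ht
  have h2 : k * x * k⁻¹ ∈ D.M := by
    apply D.cent_j_M h1 (me_conj_sq k ht2)
    · rw [← hkb]; exact me_conj_comm k hxb
    · exact me_conj_comm k hxt
  exact (Subgroup.mem_normalizer_iff.1 hk x).2 h2

theorem me_cent_odd {t : G} (ht : t ∈ D.M) (ht1 : t ≠ 1) (htk : t ^ ((D.q + 1) / 4) = 1) :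
    Subgroup.centralizer ({t} : Set G) = D.M := by
  have := D.finite_G
  have ht2 := D.me_sq_ne ht1 htk
  have hy := D.ma_hyp
  set k := (D.q + 1) / 4 with hk
  set b := D.φ D.X0 ^ k with hbdef
  have hbz : b ∈ Subgroup.zpowers (D.φ D.X0) := Subgroup.pow_mem _ (Subgroup.mem_zpowers _) k
  have hbM : b ∈ D.M := by
    rw [D.ma_M_eq]; exact Subgroup.mem_sup_right hbz
  have hb2 : b * b = 1 := by
    rw [hbdef, ← pow_add, ← two_mul, ← hy.ord, pow_orderOf_eq_one]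
  have hb1 : b ≠ 1 := by
    apply pow_ne_one_of_lt_orderOf hy.k_pos.ne'
    rw [hy.ord]; have := hy.k_pos; omega
  have hjb : D.j ≠ b := fun h => hy.notin (h ▸ hbz)
  have hc : D.j * b = b * D.j := D.M_comm D.j_mem_M hbM
  have hjbM : D.j * b ∈ D.M := mul_mem D.j_mem_M hbM
  have hjb1 : D.j * b ≠ 1 := by
    intro h
    apply hjb
    have : b = D.j * (D.j * b) := by rw [← mul_assoc, D.j_sq, one_mul]
    rw [this, h, mul_one]
  have hjb2 : D.j * b * (D.j * b) = 1 := by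
    calc D.j * b * (D.j * b) = D.j * (b * D.j) * b := by group
      _ = D.j * (D.j * b) * b := by rw [hc]
      _ = (D.j * D.j) * (b * b) := by group
      _ = 1 := by rw [D.j_sq, hb2, one_mul]
  refine Cfsg.Agent.Lib.Helper42.Ree.CM (Subgroup.centralizer ({t} : Set G)) D.M ?_ D.j b D.j_ne_one hb1 hjb
    D.j_sq hb2 hc D.j_mem_M hbM ?_ ?_ ?_ (fun x hx y hy => D.M_comm hx hy)
    ⟨k, hy.odd, by rw [D.card_M]; exact D.ma_q.1⟩ (D.three_not_dvd_cent ht1 htk)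
  · intro m hm
    rw [Subgroup.mem_centralizer_singleton_iff]
    exact D.M_comm hm ht
  · intro x hx h
    exact D.me_cent_b D.j_mem_M D.j_ne_one D.j_sq ht ht2 h.symm
      (Subgroup.mem_centralizer_singleton_iff.1 hx)
  · intro x hx h
    exact D.me_cent_b hbM hb1 hb2 ht ht2 h.symm (Subgroup.mem_centralizer_singleton_iff.1 hx)
  · intro x hx h
    exact D.me_cent_b hjbM hjb1 hjb2 ht ht2 h.symm (Subgroup.mem_centralizer_singleton_iff.1 hx)

theorem cent_M {y : G} (hy : y ∈ D.M) (h2 : y * y ≠ 1) : Subgroup.centralizer ({y} : Set G) = D.M := by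
  have h3 : (y * y) ^ ((D.q + 1) / 4) = 1 := by
    rw [← pow_two, ← pow_mul, ← D.ma_q.2.2]
    exact D.M_pow hy
  have h4 := D.me_cent_odd (mul_mem hy hy) h2 h3
  apply le_antisymm
  · rw [← h4]
    intro x hx
    rw [Subgroup.mem_centralizer_singleton_iff] at hx ⊢
    calc x * (y * y) = (x * y) * y := (mul_assoc _ _ _).symm
      _ = (y * x) * y := by rw [hx]
      _ = y * (x * y) := mul_assoc _ _ _
      _ = y * (y * x) := by rw [hx]
      _ = y * y * x := (mul_assoc _ _ _).symm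
  · intro m hm
    rw [Subgroup.mem_centralizer_singleton_iff]
    exact D.M_comm hm hy

end ReeFull

end Cfsg.Agent.Lib.Helper8
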