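import Cfsg.Agent.Lib.Helper8.Ree.ME

/-! REE ladder, rung MF. -/

set_option autoImplicit false

namespace Cfsg.Agent.Lib.Helper8

open Cfsg.Agent.Lib.Helper46 Matrix

/-- orbit-stabiliser for the conjugation action of a subgroup. -/
theorem mf_orbit_stab {G : Type*} [Group G] (N : Subgroup G) (x : G) :
    {g : G | g ∈ N ∧ g * x = x * g}.ncard * {y : G | ∃ g ∈ N, g * x * g⁻¹ = y}.ncard = Nat.card N := by
  let _ : MulAction N G := MulAction.compHom G ((MulAut.conj : G →* MulAut G).comp N.subtype)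
  have hsm : ∀ (g : N) (y : G), g • y = (g : G) * y * (g : G)⁻¹ := fun g y => rfl
  have h1 : MulAction.orbit N x = {y : G | ∃ g ∈ N, g * x * g⁻¹ = y} := by
    ext y
    constructor
    · rintro ⟨g, rfl⟩
      exact ⟨g, g.2, rfl⟩
    · rintro ⟨g, hg, rfl⟩
      exact ⟨⟨g, hg⟩, rfl⟩
  have h2 : {g : G | g ∈ N ∧ g * x = x * g} =
      (fun a : N => (a : G)) '' ((MulAction.stabilizer N x : Subgroup N) : Set N) := by
    ext g
    constructor
    · rintro ⟨hg, hx⟩
      refine ⟨⟨g, hg⟩, ?_, rfl⟩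
      rw [SetLike.mem_coe, MulAction.mem_stabilizer_iff, hsm]
      show g * x * g⁻¹ = x
      rw [hx]; group
    · rintro ⟨a, ha, rfl⟩
      rw [SetLike.mem_coe, MulAction.mem_stabilizer_iff, hsm] at ha
      refine ⟨a.2, ?_⟩
      show (a : G) * x = x * a
      conv_rhs => rw [← ha]
      group
  rw [← h1, h2, Set.ncard_image_of_injective _ Subtype.val_injective, ← MulAction.index_stabilizer]
  exact Subgroup.card_mul_index _

namespace ReeFull

variable {G : Type*} [Group G] {K : Type*} [Field K] (D : ReeFull G K)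

/-- the normaliser of the non-split torus in `SL₂`. -/
noncomputable def mfNZ : Subgroup (SpecialLinearGroup (Fin 2) K) :=
  Subgroup.normalizer (Subgroup.zpowers D.X0 : Set (SpecialLinearGroup (Fin 2) K))

theorem mf_card_NZ : Nat.card D.mfNZ = 2 * (D.q + 1) := by
  unfold mfNZ
  rw [D.mb_torus.2, D.X0_card]

theorem mf_negOne_mem : (negOne : SpecialLinearGroup (Fin 2) K) ∈ D.mfNZ := by
  unfold mfNZ
  apply Subgroup.le_normalizer
  exact D.X0_cent (negOne_comm D.X0).symm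

theorem mf_card_map : Nat.card (D.mfNZ.map D.φ) = D.q + 1 := by
  set ψ : D.mfNZ →* G := D.φ.comp D.mfNZ.subtype with hψ
  have h1 : ψ.range = D.mfNZ.map D.φ := by
    rw [hψ, MonoidHom.range_comp, Subgroup.range_subtype]
  have h2 := Subgroup.index_ker ψ
  have h3 := Subgroup.card_mul_index ψ.ker
  have h4 : Nat.card ψ.ker = 2 := by
    rw [Nat.card_eq_two_iff]
    refine ⟨⟨1, one_mem _⟩, ⟨⟨negOne, D.mf_negOne_mem⟩, ?_⟩, ?_, ?_⟩
    · rw [MonoidHom.mem_ker]
      exact D.pk4_φ_negOne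
    · intro h
      have h5 := congrArg (fun a : ψ.ker => ((a : D.mfNZ) : SpecialLinearGroup (Fin 2) K)) h
      exact one_ne_negOne D.two_ne_zero' h5
    · ext a
      simp only [Set.mem_insert_iff, Set.mem_singleton_iff, Set.mem_univ, iff_true]
      have h5 : D.φ ((a : D.mfNZ) : SpecialLinearGroup (Fin 2) K) = 1 := a.2
      rcases D.φ_eq_one_iff.1 h5 with h6 | h6
      · left; exact Subtype.ext (Subtype.ext h6)
      · right; exact Subtype.ext (Subtype.ext h6)
  rw [h4, h2, h1, D.mf_card_NZ] at h3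
  omega

theorem mf_φ_mem_iff (s : SpecialLinearGroup (Fin 2) K) :
    D.φ s ∈ Subgroup.normalizer (D.M : Set G) ↔ s ∈ D.mfNZ := by
  have hfinZ : Finite (Subgroup.zpowers D.X0) := by
    apply Nat.finite_of_card_ne_zero
    rw [D.X0_card]; omega
  constructor
  · intro h
    unfold mfNZ
    have hX : s * D.X0 * s⁻¹ ∈ Subgroup.zpowers D.X0 := by
      have h1 : D.φ s * D.φ D.X0 * (D.φ s)⁻¹ ∈ D.M :=
        (Subgroup.mem_normalizer_iff.1 h _).1 (D.mem_M.2 ⟨D.X0, Subgroup.mem_zpowers _, Or.inl rfl⟩)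
      obtain ⟨x, hx, h2 | h2⟩ := D.mem_M.1 h1
      · have h3 : D.φ (s * D.X0 * s⁻¹ * x⁻¹) = 1 := by
          rw [map_mul, map_mul, map_mul, map_inv, map_inv, h2]; group
        rcases D.φ_eq_one_iff.1 h3 with h4 | h4
        · have : s * D.X0 * s⁻¹ = (s * D.X0 * s⁻¹ * x⁻¹) * x := by group
          rw [this, h4, one_mul]; exact hx
        · have : s * D.X0 * s⁻¹ = (s * D.X0 * s⁻¹ * x⁻¹) * x := by group
          rw [this, h4]
          exact mul_mem (D.X0_cent (negOne_comm D.X0).symm) hx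
      · exfalso
        apply D.φ_ne_j (s * D.X0 * s⁻¹ * x⁻¹)
        rw [map_mul, map_mul, map_mul, map_inv, map_inv, h2]; group
    apply Subgroup.mem_normalizer_fintype
    rintro _ ⟨n, rfl⟩
    show s * D.X0 ^ n * s⁻¹ ∈ Subgroup.zpowers D.X0
    rw [← conj_zpow]
    exact Subgroup.zpow_mem _ hX n
  · intro h
    have := D.finite_G
    apply Subgroup.mem_normalizer_fintype
    intro m hm
    obtain ⟨x, hx, h2 | h2⟩ := D.mem_M.1 (show m ∈ D.M from hm)
    · refine D.mem_M.2 ⟨s * x * s⁻¹, (Subgroup.mem_normalizer_iff.1 h x).1 hx, Or.inl ?_⟩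
      rw [h2, map_mul, map_mul, map_inv]
    · refine D.mem_M.2 ⟨s * x * s⁻¹, (Subgroup.mem_normalizer_iff.1 h x).1 hx, Or.inr ?_⟩
      rw [h2, map_mul, map_mul, map_inv, ← mul_assoc, D.φ_comm_j]; group

theorem mf_j_mem : D.j ∈ Subgroup.normalizer (D.M : Set G) := Subgroup.le_normalizer D.j_mem_M

theorem mf_card_stab :
    {g : G | g ∈ Subgroup.normalizer (D.M : Set G) ∧ g * D.j = D.j * g}.ncard = 2 * (D.q + 1) := by
  have := D.finite_G
  have hset : {g : G | g ∈ Subgroup.normalizer (D.M : Set G) ∧ g * D.j = D.j * g} =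
      ((D.mfNZ.map D.φ : Subgroup G) : Set G) ∪
        (fun c => D.j * c) '' ((D.mfNZ.map D.φ : Subgroup G) : Set G) := by
    ext g
    constructor
    · rintro ⟨hg, hj⟩
      obtain ⟨s, hs | hs⟩ := D.cent_j_eq hj
      · left
        exact ⟨s, (D.mf_φ_mem_iff s).1 (hs ▸ hg), hs.symm⟩
      · right
        refine ⟨D.φ s, ⟨s, (D.mf_φ_mem_iff s).1 ?_, rfl⟩, hs.symm⟩
        have : D.φ s = D.j * g := by rw [hs, ← mul_assoc, D.j_sq, one_mul]
        rw [this]
        exact mul_mem D.mf_j_mem hg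
    · rintro (⟨s, hs, rfl⟩ | ⟨_, ⟨s, hs, rfl⟩, rfl⟩)
      · exact ⟨(D.mf_φ_mem_iff s).2 hs, D.φ_comm_j s⟩
      · refine ⟨mul_mem D.mf_j_mem ((D.mf_φ_mem_iff s).2 hs), ?_⟩
        show D.j * D.φ s * D.j = D.j * (D.j * D.φ s)
        rw [mul_assoc, D.φ_comm_j]
  have d : Disjoint ((D.mfNZ.map D.φ : Subgroup G) : Set G)
      ((fun c => D.j * c) '' ((D.mfNZ.map D.φ : Subgroup G) : Set G)) := by
    rw [Set.disjoint_left]
    rintro _ ⟨s, _, rfl⟩ ⟨_, ⟨s', _, rfl⟩, h2⟩
    apply D.φ_ne_j (s * s'⁻¹)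
    have h3 : D.j * D.φ s' = D.φ s := h2
    rw [map_mul, map_inv, ← h3]; group
  have e : ((D.mfNZ.map D.φ : Subgroup G) : Set G).ncard = D.q + 1 := by
    rw [← D.mf_card_map]
    exact (Nat.card_coe_set_eq _).symm
  rw [hset, Set.ncard_union_eq d (Set.toFinite _) (Set.toFinite _),
    Set.ncard_image_of_injective _ (mul_right_injective D.j), e]
  ring

theorem mf_card_orbit :
    {y : G | ∃ g ∈ Subgroup.normalizer (D.M : Set G), g * D.j * g⁻¹ = y}.ncard = 3 := by
  have := D.finite_G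
  have hset : {y : G | ∃ g ∈ Subgroup.normalizer (D.M : Set G), g * D.j * g⁻¹ = y} =
      {b | b ∈ D.M ∧ b ≠ 1 ∧ b * b = 1} := by
    ext b
    constructor
    · rintro ⟨g, hg, rfl⟩
      refine ⟨(Subgroup.mem_normalizer_iff.1 hg _).1 D.j_mem_M, ?_, ?_⟩
      · intro h
        apply D.j_ne_one
        have : D.j = g⁻¹ * (g * D.j * g⁻¹) * g := by group
        rw [this, h]; group
      · calc g * D.j * g⁻¹ * (g * D.j * g⁻¹) = g * (D.j * D.j) * g⁻¹ := by group
          _ = 1 := by rw [D.j_sq]; group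
    · rintro ⟨hb, hb1, hb2⟩
      obtain ⟨k, hk, hkb⟩ := D.M_fuse hb hb1 hb2
      refine ⟨k⁻¹, inv_mem hk, ?_⟩
      rw [← hkb]; group
  have h4 := D.card_M_sq
  have hins : {t | t ∈ D.M ∧ t * t = 1} = insert 1 {b | b ∈ D.M ∧ b ≠ 1 ∧ b * b = 1} := by
    ext t
    simp only [Set.mem_insert_iff, Set.mem_ofPred_eq]
    constructor
    · rintro ⟨h1, h2⟩
      by_cases h : t = 1
      · exact Or.inl h
      · exact Or.inr ⟨h1, h, h2⟩
    · rintro (rfl | ⟨h1, _, h2⟩)
      · exact ⟨one_mem _, one_mul _⟩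
      · exact ⟨h1, h2⟩
  rw [hins, Set.ncard_insert_of_notMem (by simp) (Set.toFinite _)] at h4
  rw [hset]
  omega

/-! ### rung MF -/
theorem card_normalizer_M : Nat.card (Subgroup.normalizer (D.M : Set G)) = 6 * (D.q + 1) := by
  rw [← mf_orbit_stab (Subgroup.normalizer (D.M : Set G)) D.j, D.mf_card_stab, D.mf_card_orbit]
  ring

end ReeFull

end Cfsg.Agent.Lib.Helper8
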