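import Cfsg.Agent.Lib.Helper8.Ree.TY

/-! REE ladder, rung P1. -/

set_option autoImplicit false

namespace Cfsg.Agent.Lib.Helper8

open Cfsg.Agent.Lib.Helper46 Matrix

namespace ReeFull

variable {G : Type*} [Group G] {K : Type*} [Field K] (D : ReeFull G K)

/-! ### rung P1 -/

theorem p1_kill {A : Subgroup G} (hA : Nat.Coprime (D.q ^ 2 - D.q + 1) (Nat.card A)) {g x : G}
    (hg : D.IsPi g) (hx : x * g * x⁻¹ ∈ A) : False := by
  have := D.finite_G
  have h1 : orderOf (x * g * x⁻¹) ∣ Nat.card A := Subgroup.orderOf_dvd_natCard A hx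
  have h2 : orderOf (x * g * x⁻¹) ∣ D.q ^ 2 - D.q + 1 := by
    apply orderOf_dvd_of_pow_eq_one
    rw [conj_pow, hg.2]
    group
  have h3 : orderOf (x * g * x⁻¹) = 1 := Nat.eq_one_of_dvd_coprimes hA h2 h1
  rw [orderOf_eq_one_iff, conj_eq_one_iff] at h3
  exact hg.1 h3

theorem p1_cop_Bs : Nat.Coprime (D.q ^ 2 - D.q + 1) (Nat.card D.Bs) := by
  rw [D.card_Bs]
  exact Nat.Coprime.coprime_dvd_right ⟨D.q + 1, rfl⟩ D.coprime_pi

theorem p1_cop_M : Nat.Coprime (D.q ^ 2 - D.q + 1) (Nat.card D.M) := by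
  rw [D.card_M]
  exact Nat.Coprime.coprime_dvd_right ⟨D.q ^ 3 * (D.q - 1), by ring⟩ D.coprime_pi

theorem p1_cop_Cj :
    Nat.Coprime (D.q ^ 2 - D.q + 1) (Nat.card (Subgroup.centralizer ({D.j} : Set G))) := by
  rw [D.card_cent_j]
  refine Nat.Coprime.coprime_dvd_right ⟨D.q ^ 2, ?_⟩ D.coprime_pi
  have hq := D.q_ge
  obtain ⟨k, hk⟩ : ∃ k, D.q = k + 1 := ⟨D.q - 1, by omega⟩
  have h1 : D.q - 1 = k := by omega
  have h2 : D.q ^ 2 - 1 = k * (k + 2) := by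
    rw [hk]
    have : (k + 1) ^ 2 = k * (k + 2) + 1 := by ring
    omega
  rw [h1, h2, hk]
  ring

theorem pi_cent {g c : G} (hg : D.IsPi g) (hc : c * g = g * c) (h1 : c ≠ 1) : D.IsPi c := by
  have hcomm : ∀ x : G, (x * g * x⁻¹) * (x * c * x⁻¹) = (x * c * x⁻¹) * (x * g * x⁻¹) := by
    intro x
    calc (x * g * x⁻¹) * (x * c * x⁻¹) = x * (g * c) * x⁻¹ := by group
      _ = x * (c * g) * x⁻¹ := by rw [hc]
      _ = _ := by group
  by_cases hc2 : c * c = 1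
  · exfalso
    obtain ⟨x, hx⟩ := D.invol_conj h1 hc2
    have h := hcomm x
    rw [hx] at h
    exact D.p1_kill D.p1_cop_Cj hg (x := x) (Subgroup.mem_centralizer_singleton_iff.2 h)
  have hsq : ∀ x : G, (x * c * x⁻¹) * (x * c * x⁻¹) ≠ 1 := by
    intro x h
    apply hc2
    have e : (x * c * x⁻¹) * (x * c * x⁻¹) = x * (c * c) * x⁻¹ := by group
    rw [e, conj_eq_one_iff] at h
    exact h
  rcases D.types h1 with ⟨x, hx⟩ | ⟨x, hx⟩ | ⟨x, a, ha, hx⟩ | ⟨x, hx⟩ | h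
  · exfalso
    have hx1 : x * c * x⁻¹ ≠ 1 := by rw [Ne, conj_eq_one_iff]; exact h1
    exact D.p1_kill D.p1_cop_Bs hg (D.cent_le_Bs hx hx1 (hcomm x))
  · exfalso
    have h6 := D.cent_Hs hx (hsq x)
    have h7 : x * g * x⁻¹ ∈ D.Hs := by
      rw [← h6, Subgroup.mem_centralizer_singleton_iff]
      exact hcomm x
    exact D.p1_kill D.p1_cop_Bs hg (D.Hs_le_Bs h7)
  · exfalso
    have h2 : (x * c * x⁻¹) * (x * c * x⁻¹) = D.U 0 (a + a) 0 := by
      rw [hx]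
      calc D.U 0 a 0 * D.j * (D.U 0 a 0 * D.j) = D.U 0 a 0 * (D.j * D.U 0 a 0) * D.j := by group
        _ = D.U 0 a 0 * D.U 0 a 0 * (D.j * D.j) := by rw [D.pk4_j_U]; group
        _ = D.U 0 a 0 * D.U 0 a 0 := by rw [D.j_sq, mul_one]
        _ = _ := by rw [D.U_mul]; congr 1 <;> simp
    have h3 : D.U 0 (a + a) 0 ≠ 1 := by
      apply D.U_ne_one
      rintro ⟨-, h, -⟩
      have : (2 : K) * a = 0 := by linear_combination h
      rcases mul_eq_zero.1 this with h | h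
      · exact D.two_ne_zero' h
      · exact ha h
    have h4 : (x * g * x⁻¹) * D.U 0 (a + a) 0 = D.U 0 (a + a) 0 * (x * g * x⁻¹) := by
      rw [← h2]
      have hh := hcomm x
      obtain ⟨g', hg'⟩ : ∃ g', g' = x * g * x⁻¹ := ⟨_, rfl⟩
      obtain ⟨c', hc'⟩ : ∃ c', c' = x * c * x⁻¹ := ⟨_, rfl⟩
      rw [← hg', ← hc'] at hh ⊢
      rw [← mul_assoc, hh, mul_assoc, hh, mul_assoc]
    exact D.p1_kill D.p1_cop_Bs hg (D.cent_le_Bs (D.U_mem _ _ _) h3 h4)
  · exfalso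
    have h6 := D.cent_M hx (hsq x)
    have h7 : x * g * x⁻¹ ∈ D.M := by
      rw [← h6, Subgroup.mem_centralizer_singleton_iff]
      exact hcomm x
    exact D.p1_kill D.p1_cop_M hg h7
  · exact h

theorem pi_card_dvd {g : G} (hg : D.IsPi g) :
    Nat.card (Subgroup.centralizer ({g} : Set G)) ∣ D.q ^ 2 - D.q + 1 := by
  have := D.finite_G
  have h1 : Nat.card (Subgroup.centralizer ({g} : Set G)) ∣
      (D.q ^ 3 * (D.q - 1) * (D.q + 1)) * (D.q ^ 2 - D.q + 1) := by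
    have h := Subgroup.card_subgroup_dvd_card (Subgroup.centralizer ({g} : Set G))
    rw [D.card_G, D.ty_cube] at h
    have e : D.q ^ 3 * ((D.q + 1) * (D.q ^ 2 - D.q + 1)) * (D.q - 1)
        = (D.q ^ 3 * (D.q - 1) * (D.q + 1)) * (D.q ^ 2 - D.q + 1) := by ring
    rwa [e] at h
  have h2 : Nat.Coprime (Nat.card (Subgroup.centralizer ({g} : Set G)))
      (D.q ^ 3 * (D.q - 1) * (D.q + 1)) := by
    apply Nat.coprime_of_dvd
    intro k hk hk1 hk2
    have : Fact k.Prime := ⟨hk⟩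
    obtain ⟨c, hc⟩ := exists_prime_orderOf_dvd_card' k hk1
    have hc' : orderOf (c : G) = k := by rw [Subgroup.orderOf_coe, hc]
    have hc1 : (c : G) ≠ 1 := by
      intro h
      rw [h, orderOf_one] at hc'
      exact hk.one_lt.ne hc'
    have hcg : (c : G) * g = g * c := Subgroup.mem_centralizer_singleton_iff.1 c.2
    have hpi := D.pi_cent hg hcg hc1
    have h3 : k ∣ D.q ^ 2 - D.q + 1 := by
      rw [← hc']
      exact orderOf_dvd_of_pow_eq_one hpi.2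
    exact Nat.not_coprime_of_dvd_of_dvd hk.one_lt h3 hk2 D.coprime_pi
  exact h2.dvd_of_dvd_mul_left h1

end ReeFull

end Cfsg.Agent.Lib.Helper8
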