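import Cfsg.Agent.Lib.Helper8.Ree.F2359

/-! REE ladder, rung P2 (helper9). -/

set_option autoImplicit false

namespace Cfsg.Agent.Lib.Helper8

open Cfsg.Agent.Lib.Helper46 Matrix

lemma p2_comm_of_cyclic {G : Type*} [Group G] {H : Subgroup G} (hH : IsCyclic H) {a b : G}
    (ha : a ∈ H) (hb : b ∈ H) : a * b = b * a := by
  let _ : CommGroup H := IsCyclic.commGroup
  exact congrArg Subtype.val (mul_comm (⟨a, ha⟩ : H) ⟨b, hb⟩)

lemma p2_isCyclic_of_le {G : Type*} [Group G] {A B : Subgroup G} (h : A ≤ B) (hB : IsCyclic B) :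
    IsCyclic A := by
  have h1 : IsCyclic (A.subgroupOf B) := inferInstance
  exact (Subgroup.subgroupOfEquivOfLe h).isCyclic.1 h1

namespace ReeFull

variable {G : Type*} [Group G] {K : Type*} [Field K] (D : ReeFull G K)

theorem p2_exists_prime_pow {g : G} (hg : D.IsPi g) :
    ∃ (p k : ℕ), p.Prime ∧ p ∣ D.q ^ 2 - D.q + 1 ∧ orderOf (g ^ k) = p ∧ D.IsPi (g ^ k) := by
  have := D.finite_G
  have h1 : orderOf g ≠ 1 := fun h => hg.1 (orderOf_eq_one_iff.1 h)
  have h2 : orderOf g ∣ D.q ^ 2 - D.q + 1 := orderOf_dvd_of_pow_eq_one hg.2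
  have hp := Nat.minFac_prime h1
  have ho : orderOf (g ^ (orderOf g / (orderOf g).minFac)) = (orderOf g).minFac :=
    orderOf_pow_orderOf_div (orderOf_pos g).ne' (Nat.minFac_dvd _)
  refine ⟨(orderOf g).minFac, orderOf g / (orderOf g).minFac, hp, (Nat.minFac_dvd _).trans h2, ho,
    ?_, ?_⟩
  · intro h
    rw [h, orderOf_one] at ho
    exact hp.one_lt.ne ho
  · rw [← pow_mul, mul_comm, pow_mul, hg.2, one_pow]

variable (ρ : G →* GL (Fin 7) K) (hρ : Function.Injective ρ)
include ρ hρ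

theorem pi_cyclic {g : G} (hg : D.IsPi g) : IsCyclic (Subgroup.centralizer ({g} : Set G)) := by
  have := D.finite_G
  have := D.finK
  letI := Fintype.ofFinite K
  have hcK : Fintype.card K = D.q := by rw [← Nat.card_eq_fintype_card, D.hK]; rfl
  obtain ⟨p, k, hp, hpQ, ho, hpi⟩ := D.p2_exists_prime_pow hg
  obtain ⟨hord, h6⟩ := D.ord_six hp hpQ
  have hox : orderOf (ρ (g ^ k)) = p := by rw [orderOf_injective ρ hρ, ho]
  obtain ⟨-, hcyc, -⟩ := Cfsg.Agent.Lib.Helper67.Ree.L7 hp (by rw [hcK]; exact hord)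
    (by rw [hcK]; exact h6) (ρ (g ^ k)) hox
  have h1 : IsCyclic ((Subgroup.centralizer ({g ^ k} : Set G)).map ρ) := by
    apply hcyc
    · rintro _ ⟨c, hc, rfl⟩
      have := Subgroup.mem_centralizer_singleton_iff.1 hc
      rw [← map_mul, ← map_mul, this]
    · rw [Subgroup.card_map_of_injective hρ, hcK]
      have h2 := D.pi_card_dvd hpi
      have h3 := D.coprime_pi
      have h4 : Nat.Coprime (D.q ^ 2 - D.q + 1) (D.q - 1) :=
        Nat.Coprime.coprime_dvd_right ⟨D.q ^ 3 * (D.q + 1), by ring⟩ h3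
      exact Nat.Coprime.coprime_dvd_left h2 h4
  have h2 : IsCyclic (Subgroup.centralizer ({g ^ k} : Set G)) :=
    ((Subgroup.centralizer ({g ^ k} : Set G)).equivMapOfInjective ρ hρ).isCyclic.2 h1
  apply p2_isCyclic_of_le _ h2
  intro c hc
  rw [Subgroup.mem_centralizer_singleton_iff] at hc ⊢
  exact ((Commute.pow_right (show Commute c g from hc) k)).eq

theorem pi_isTor {g : G} (hg : D.IsPi g) : IsTor (Subgroup.centralizer ({g} : Set G)) := by
  intro t ht ht1
  have htu : t * g = g * t := Subgroup.mem_centralizer_singleton_iff.1 ht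
  have hft : D.IsPi t := D.pi_cent hg htu ht1
  have c1 := D.pi_cyclic ρ hρ hg
  have c2 := D.pi_cyclic ρ hρ hft
  have hu_t : g ∈ Subgroup.centralizer ({t} : Set G) :=
    Subgroup.mem_centralizer_singleton_iff.2 htu.symm
  ext c
  constructor
  · intro hc
    exact Subgroup.mem_centralizer_singleton_iff.2 (p2_comm_of_cyclic c2 hc hu_t)
  · intro hc
    exact Subgroup.mem_centralizer_singleton_iff.2 (p2_comm_of_cyclic c1 hc ht)

end ReeFull

end Cfsg.Agent.Lib.Helper8
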