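import Cfsg.Agent.Lib.Helper8.Ree.P2
import Cfsg.Agent.Lib.Helper70.Wielandt

/-! REE ladder, rung P3 (helper9). -/

set_option autoImplicit false
set_option linter.style.haveILetI false

namespace Cfsg.Agent.Lib.Helper8

open Cfsg.Agent.Lib.Helper46 Matrix

lemma p3_mem_zpowers {G : Type*} [Group G] [Finite G] {T : Subgroup G} (hT : IsCyclic T) {x y : G}
    (hx : x ∈ T) (hy : y ∈ T) (h : orderOf x = orderOf y) : y ∈ Subgroup.zpowers x := by
  have h1 : Subgroup.zpowers (⟨x, hx⟩ : T) = Subgroup.zpowers (⟨y, hy⟩ : T) := by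
    apply Cfsg.Agent.Lib.Helper70.eq_of_card_eq_of_isCyclic
    rw [Nat.card_zpowers, Nat.card_zpowers, Subgroup.orderOf_mk, Subgroup.orderOf_mk, h]
  have h2 : (⟨y, hy⟩ : T) ∈ Subgroup.zpowers (⟨x, hx⟩ : T) := by
    rw [h1]; exact Subgroup.mem_zpowers _
  obtain ⟨n, hn⟩ := Subgroup.mem_zpowers_iff.1 h2
  exact Subgroup.mem_zpowers_iff.2 ⟨n, by simpa using congrArg Subtype.val hn⟩

namespace ReeFull

variable {G : Type*} [Group G] {K : Type*} [Field K] (D : ReeFull G K)

variable (ρ : G →* GL (Fin 7) K) (hρ : Function.Injective ρ)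
include ρ hρ

theorem pi_normalizer_le {g : G} (hg : D.IsPi g) :
    Nat.card (Subgroup.normalizer ((Subgroup.centralizer ({g} : Set G) : Subgroup G) : Set G)) ≤
      6 * Nat.card (Subgroup.centralizer ({g} : Set G)) := by
  classical
  have := D.finite_G
  have := D.finK
  letI := Fintype.ofFinite K
  have hcK : Fintype.card K = D.q := by rw [← Nat.card_eq_fintype_card, D.hK]; rfl
  obtain ⟨p, k, hp, hpQ, ho, hpi⟩ := D.p2_exists_prime_pow hg
  obtain ⟨hord, h6⟩ := D.ord_six hp hpQ
  have hox : orderOf (ρ (g ^ k)) = p := by rw [orderOf_injective ρ hρ, ho]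
  obtain ⟨-, -, hS⟩ := Cfsg.Agent.Lib.Helper67.Ree.L7 hp (by rw [hcK]; exact hord)
    (by rw [hcK]; exact h6) (ρ (g ^ k)) hox
  have hcyc := D.pi_cyclic ρ hρ hg
  have htor := D.pi_isTor ρ hρ hg
  set T := Subgroup.centralizer ({g} : Set G) with hT
  set x := g ^ k with hx
  have hxT : x ∈ T := by
    rw [hT, Subgroup.mem_centralizer_singleton_iff]
    exact ((Commute.pow_left (Commute.refl g) k)).eq
  have hCx : Subgroup.centralizer ({x} : Set G) = T := htor x hxT hpi.1
  letI := Fintype.ofFinite (Subgroup.normalizer (T : Set G))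
  letI := Fintype.ofFinite T
  let φ : Subgroup.normalizer (T : Set G) → GL (Fin 7) K := fun n => ρ ((n : G) * x * (n : G)⁻¹)
  have hSfin : {y : GL (Fin 7) K | y ∈ Subgroup.zpowers (ρ x) ∧ IsConj (ρ x) y}.Finite :=
    Set.toFinite _
  let R : Finset (GL (Fin 7) K) := hSfin.toFinset
  have hR : R.card ≤ 6 := by
    rw [← Set.ncard_eq_toFinset_card _ hSfin]
    exact hS
  have hφ : ∀ n ∈ (Finset.univ : Finset (Subgroup.normalizer (T : Set G))), φ n ∈ R := by
    intro n _
    rw [Set.Finite.mem_toFinset]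
    constructor
    · have h1 : (n : G) * x * (n : G)⁻¹ ∈ T := (Subgroup.mem_normalizer_iff.1 n.2 x).1 hxT
      have h2 : orderOf x = orderOf ((n : G) * x * (n : G)⁻¹) := by
        have := orderOf_injective (MulAut.conj (n : G)).toMonoidHom (MulAut.conj (n : G)).injective x
        simpa [MulAut.conj_apply] using this.symm
      obtain ⟨i, hi⟩ := Subgroup.mem_zpowers_iff.1 (p3_mem_zpowers hcyc hxT h1 h2)
      exact Subgroup.mem_zpowers_iff.2 ⟨i, by rw [← map_zpow, hi]⟩
    · rw [isConj_iff]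
      exact ⟨ρ n, by simp only [φ, map_mul, map_inv]⟩
  have hfib : ∀ b ∈ R, (Finset.univ.filter (fun n => φ n = b)).card ≤ Nat.card T := by
    intro b _
    by_cases hb : ∃ n₀, φ n₀ = b
    · obtain ⟨n₀, rfl⟩ := hb
      rw [Nat.card_eq_fintype_card, ← Finset.card_univ]
      have hmem : ∀ n : Subgroup.normalizer (T : Set G), φ n = φ n₀ → (n₀ : G)⁻¹ * n ∈ T := by
        intro n hn
        have e : (n : G) * x * (n : G)⁻¹ = n₀ * x * (n₀ : G)⁻¹ := hρ hn
        have hgoal : (n₀ : G)⁻¹ * n ∈ Subgroup.centralizer ({x} : Set G) := by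
          rw [Subgroup.mem_centralizer_singleton_iff]
          calc (n₀ : G)⁻¹ * n * x
              = (n₀ : G)⁻¹ * ((n : G) * x * (n : G)⁻¹) * n := by group
            _ = x * ((n₀ : G)⁻¹ * n) := by rw [e]; group
        exact hCx.le hgoal
      apply Finset.card_le_card_of_injOn
        (fun n => if h : φ n = φ n₀ then (⟨(n₀ : G)⁻¹ * n, hmem n h⟩ : T) else 1)
      · intro n _; exact Finset.mem_univ _
      · intro n hn n' hn' e
        have hn1 : φ n = φ n₀ := (Finset.mem_filter.1 hn).2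
        have hn2 : φ n' = φ n₀ := (Finset.mem_filter.1 hn').2
        simp only [hn1, hn2, dif_pos] at e
        have := congrArg Subtype.val e
        exact Subtype.ext (mul_left_cancel this)
    · push Not at hb
      rw [Finset.filter_false_of_mem (fun n _ => hb n)]
      simp
  have := Finset.card_le_mul_card_image_of_maps_to hφ (Nat.card T) hfib
  rw [Finset.card_univ, ← Nat.card_eq_fintype_card] at this
  calc _ ≤ Nat.card T * R.card := this
    _ ≤ Nat.card T * 6 := Nat.mul_le_mul_left _ hR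
    _ = _ := by ring

end ReeFull

end Cfsg.Agent.Lib.Helper8
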