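import Cfsg.Agent.Lib.Helper8.Ree.P3

/-! REE ladder, rung P4 (helper9). -/

set_option autoImplicit false

namespace Cfsg.Agent.Lib.Helper8

open Cfsg.Agent.Lib.Helper46 Matrix

namespace ReeFull

variable {G : Type*} [Group G] {K : Type*} [Field K] (D : ReeFull G K)

variable (ρ : G →* GL (Fin 7) K) (hρ : Function.Injective ρ)
include ρ hρ

theorem pi_coprime {g₁ g₂ : G} (h₁ : D.IsPi g₁) (h₂ : D.IsPi g₂)
    (hd : Disjoint (XU (Subgroup.centralizer ({g₁} : Set G))) (XU (Subgroup.centralizer ({g₂} : Set G)))) :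
    Nat.Coprime (Nat.card (Subgroup.centralizer ({g₁} : Set G))) (Nat.card (Subgroup.centralizer ({g₂} : Set G))) := by
  have := D.finite_G
  apply Nat.coprime_of_dvd
  intro s hs d1 d2
  have : Fact s.Prime := ⟨hs⟩
  obtain ⟨⟨c₁, hc₁⟩, ho₁⟩ := exists_prime_orderOf_dvd_card' s d1
  obtain ⟨⟨c₂, hc₂⟩, ho₂⟩ := exists_prime_orderOf_dvd_card' s d2
  have ho₁' : orderOf c₁ = s := by rw [← ho₁]; exact (Subgroup.orderOf_mk c₁ hc₁).symm
  have ho₂' : orderOf c₂ = s := by rw [← ho₂]; exact (Subgroup.orderOf_mk c₂ hc₂).symm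
  have hne : ∀ c : G, orderOf c = s → c ≠ 1 := by
    rintro c hc rfl
    rw [orderOf_one] at hc
    exact hs.one_lt.ne hc
  have hp : ∀ c : G, orderOf c = s → IsPGroup s (Subgroup.zpowers c) := fun c hc =>
    IsPGroup.of_card (n := 1) (by rw [Nat.card_zpowers, hc, pow_one])
  obtain ⟨P₁, hP₁⟩ := (hp c₁ ho₁').exists_le_sylow
  obtain ⟨P₂, hP₂⟩ := (hp c₂ ho₂').exists_le_sylow
  obtain ⟨g, hg⟩ := MulAction.exists_smul_eq G P₁ P₂
  have hm1 : g * c₁ * g⁻¹ ∈ (P₂ : Subgroup G) := by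
    have e : (P₂ : Subgroup G) = (P₁ : Subgroup G).map (MulAut.conj g).toMonoidHom := by
      rw [← hg]; rfl
    rw [e]
    exact ⟨c₁, hP₁ (Subgroup.mem_zpowers c₁), rfl⟩
  have hm2 : c₂ ∈ (P₂ : Subgroup G) := hP₂ (Subgroup.mem_zpowers c₂)
  have t₂ := D.pi_isTor ρ hρ h₂
  -- a central element of `P₂`
  have hnt : Nontrivial (P₂ : Subgroup G) :=
    ⟨⟨⟨c₂, hm2⟩, 1, fun h => hne c₂ ho₂' (congrArg Subtype.val h)⟩⟩
  have hcn : Nontrivial (Subgroup.center (P₂ : Subgroup G)) := P₂.2.center_nontrivial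
  obtain ⟨z, hz⟩ := exists_ne (1 : Subgroup.center (P₂ : Subgroup G))
  have hz1 : ((z : (P₂ : Subgroup G)) : G) ≠ 1 := by
    intro h
    apply hz
    apply Subtype.ext
    apply Subtype.ext
    exact h
  have hzc : ∀ y (hy : y ∈ (P₂ : Subgroup G)),
      y * ((z : (P₂ : Subgroup G)) : G) = ((z : (P₂ : Subgroup G)) : G) * y := by
    intro y hy
    have := Subgroup.mem_center_iff.1 z.2 ⟨y, hy⟩
    exact congrArg Subtype.val this
  have hzT : ((z : (P₂ : Subgroup G)) : G) ∈ Subgroup.centralizer ({g₂} : Set G) := by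
    rw [← t₂ c₂ hc₂ (hne c₂ ho₂')]
    exact Subgroup.mem_centralizer_singleton_iff.2 (hzc c₂ hm2).symm
  have hmem : g * c₁ * g⁻¹ ∈ Subgroup.centralizer ({g₂} : Set G) := by
    rw [← t₂ _ hzT hz1]
    exact Subgroup.mem_centralizer_singleton_iff.2 (hzc _ hm1)
  have hx1 : c₁ ∈ XU (Subgroup.centralizer ({g₁} : Set G)) :=
    ⟨1, c₁, hc₁, hne c₁ ho₁', by group⟩
  have hx2 : c₁ ∈ XU (Subgroup.centralizer ({g₂} : Set G)) :=
    ⟨g⁻¹, _, hmem, conj_ne_one (hne c₁ ho₁'), by group⟩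
  exact Set.disjoint_left.1 hd hx1 hx2

end ReeFull

end Cfsg.Agent.Lib.Helper8
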