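import Cfsg.Agent.Lib.Helper8.Ree.P4

/-! REE ladder, rung P5 (helper9). -/

set_option autoImplicit false

namespace Cfsg.Agent.Lib.Helper8

open Cfsg.Agent.Lib.Helper46 Matrix

lemma p5_arith_one {q Q f d b a : ℕ} (hq : 27 ≤ q) (hQ : Q + q = q ^ 2 + 1) (hab : a * b = Q)
    (hdb : d + b = Q) (h7 : 7 * b ≤ Q) (hf : f = 12 ∨ f = 6 ∨ f = 4 ∨ f = 3 ∨ f = 2)
    (h : f * d = 4 * q * (q - 2)) : False := by
  obtain ⟨p, rfl⟩ := Nat.exists_eq_add_of_le' (show 2 ≤ q by omega)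
  rw [Nat.add_sub_cancel] at h
  have hQ' : Q = p ^ 2 + 3 * p + 3 := by nlinarith
  subst hQ'
  rcases hf with rfl | rfl | rfl | rfl | rfl
  · nlinarith
  · nlinarith
  · have hb : b = p + 3 := by nlinarith
    subst hb
    have h1 : (p + 3) ∣ p ^ 2 + 3 * p + 3 := ⟨a, by rw [← hab]; ring⟩
    have h2 : p ^ 2 + 3 * p + 3 = (p + 3) * p + 3 := by ring
    rw [h2] at h1
    have h3 : (p + 3) ∣ 3 := (Nat.dvd_add_right (Dvd.intro _ rfl)).1 h1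
    have := Nat.le_of_dvd (by norm_num) h3
    omega
  · nlinarith
  · nlinarith

lemma p5_arith_two {q Q f₁ d₁ b₁ f₂ d₂ b₂ : ℕ} (hq : 27 ≤ q) (hQ : Q + q = q ^ 2 + 1)
    (hdb₁ : d₁ + b₁ = Q) (h7₁ : 7 * b₁ ≤ Q) (hf₁ : f₁ = 12 ∨ f₁ = 6 ∨ f₁ = 4 ∨ f₁ = 3 ∨ f₁ = 2)
    (hdb₂ : d₂ + b₂ = Q) (h7₂ : 7 * b₂ ≤ Q) (hf₂ : f₂ = 12 ∨ f₂ = 6 ∨ f₂ = 4 ∨ f₂ = 3 ∨ f₂ = 2)
    (h : f₁ * d₁ + f₂ * d₂ = 4 * q * (q - 2)) : f₁ = 2 ∧ f₂ = 2 := by
  obtain ⟨p, rfl⟩ := Nat.exists_eq_add_of_le' (show 2 ≤ q by omega)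
  rw [Nat.add_sub_cancel] at h
  have hQ' : Q = p ^ 2 + 3 * p + 3 := by nlinarith
  subst hQ'
  rcases hf₁ with rfl | rfl | rfl | rfl | rfl <;> rcases hf₂ with rfl | rfl | rfl | rfl | rfl <;>
    first | exact ⟨rfl, rfl⟩ | (exfalso; nlinarith)

lemma p5_arith_three {q Q f₁ d₁ b₁ f₂ d₂ b₂ f₃ d₃ b₃ : ℕ} (hq : 27 ≤ q) (hQ : Q + q = q ^ 2 + 1)
    (hdb₁ : d₁ + b₁ = Q) (h7₁ : 7 * b₁ ≤ Q) (hf₁ : f₁ = 12 ∨ f₁ = 6 ∨ f₁ = 4 ∨ f₁ = 3 ∨ f₁ = 2)
    (hdb₂ : d₂ + b₂ = Q) (h7₂ : 7 * b₂ ≤ Q) (hf₂ : f₂ = 12 ∨ f₂ = 6 ∨ f₂ = 4 ∨ f₂ = 3 ∨ f₂ = 2)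
    (hdb₃ : d₃ + b₃ = Q) (h7₃ : 7 * b₃ ≤ Q) (hf₃ : f₃ = 12 ∨ f₃ = 6 ∨ f₃ = 4 ∨ f₃ = 3 ∨ f₃ = 2)
    (h : f₁ * d₁ + f₂ * d₂ + f₃ * d₃ ≤ 4 * q * (q - 2)) : False := by
  obtain ⟨p, rfl⟩ := Nat.exists_eq_add_of_le' (show 2 ≤ q by omega)
  rw [Nat.add_sub_cancel] at h
  have hQ' : Q = p ^ 2 + 3 * p + 3 := by nlinarith
  subst hQ'
  have g₁ : 2 * d₁ ≤ f₁ * d₁ := Nat.mul_le_mul_right _ (by omega)
  have g₂ : 2 * d₂ ≤ f₂ * d₂ := Nat.mul_le_mul_right _ (by omega)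
  have g₃ : 2 * d₃ ≤ f₃ * d₃ := Nat.mul_le_mul_right _ (by omega)
  nlinarith

lemma p5_arith_final {q Q R a₁ a₂ b₁ b₂ : ℕ} (hq : 27 ≤ q) (hQ : Q + q = q ^ 2 + 1)
    (hR : R ^ 2 = 3 * q) (h1 : a₁ * b₁ = Q)
    (h2 : a₂ * b₂ = Q) (hb : b₁ + b₂ = 2 * q + 2) (hc : Nat.Coprime a₁ a₂)
    (hodd : ¬ 2 ∣ Q) (h3 : ¬ 3 ∣ Q) :
    (a₁ = q + R + 1 ∧ a₂ = q - R + 1) ∨ (a₁ = q - R + 1 ∧ a₂ = q + R + 1) := by
  have hRq : R ≤ q := by nlinarith
  have hQpos : 0 < Q := by nlinarith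
  have hd : a₁ * a₂ ∣ Q := hc.mul_dvd_of_dvd_of_dvd ⟨b₁, h1.symm⟩ ⟨b₂, h2.symm⟩
  obtain ⟨c, hcN⟩ := hd
  have ha₁ : 0 < a₁ := Nat.pos_of_ne_zero (by rintro rfl; simp at h1; omega)
  have ha₂ : 0 < a₂ := Nat.pos_of_ne_zero (by rintro rfl; simp at h2; omega)
  have e1 : b₁ = a₂ * c := by
    apply Nat.eq_of_mul_eq_mul_left ha₁
    rw [h1, hcN]; ring
  have e2 : b₂ = a₁ * c := by
    apply Nat.eq_of_mul_eq_mul_left ha₂
    rw [h2, hcN]; ring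
  have hcd : c ∣ Q := ⟨a₁ * a₂, by rw [hcN]; ring⟩
  have hc2 : c ∣ 2 * (q + 1) := ⟨a₁ + a₂, by rw [e1, e2] at hb; linarith⟩
  have hcodd : Nat.Coprime c 2 := by
    rw [Nat.coprime_comm, Nat.Prime.coprime_iff_not_dvd Nat.prime_two]
    exact fun h => hodd (h.trans hcd)
  have hc3 : c ∣ q + 1 := hcodd.dvd_of_dvd_mul_left hc2
  obtain ⟨p, rfl⟩ := Nat.exists_eq_add_of_le' (show 2 ≤ q by omega)
  have hQ' : Q = p ^ 2 + 3 * p + 3 := by nlinarith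
  have hc4 : c ∣ (p + 2 + 1) * p := Dvd.dvd.mul_right hc3 _
  have e3 : Q = (p + 2 + 1) * p + 3 := by rw [hQ']; ring
  have hc5 : c ∣ 3 := by
    rw [e3] at hcd
    exact (Nat.dvd_add_right hc4).1 hcd
  have hc1 : c = 1 := by
    rcases (Nat.dvd_prime Nat.prime_three).1 hc5 with h | h
    · exact h
    · exact absurd (h ▸ hcd) h3
  subst hc1
  rw [mul_one] at e1 e2 hcN
  rw [e1, e2] at hb
  obtain ⟨t, ht⟩ := Nat.exists_eq_add_of_le hRq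
  have e4 : p + 2 - R + 1 = t + 1 := by omega
  rw [e4]
  have key : ((a₁ : ℤ) - (p + 2 + R + 1)) * ((a₁ : ℤ) - (t + 1)) = 0 := by
    rw [hQ'] at hcN
    zify at hb hcN hR ht
    have ht' : (t : ℤ) = p + 2 - R := by linarith
    rw [ht']
    have ha : (a₂ : ℤ) = 2 * (p + 2) + 2 - a₁ := by linarith
    rw [ha] at hcN
    linear_combination hcN - hR
  rcases mul_eq_zero.1 key with h | h
  · left
    have : a₁ = p + 2 + R + 1 := by zify; linarith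
    refine ⟨this, ?_⟩
    omega
  · right
    have : a₁ = t + 1 := by zify; linarith
    refine ⟨this, ?_⟩
    omega

lemma p5_q_mod_five (m : ℕ) : 3 ^ (2 * m + 1) % 5 = 3 ∨ 3 ^ (2 * m + 1) % 5 = 2 := by
  induction m with
  | zero => left; norm_num
  | succ k ih =>
    have e : 3 ^ (2 * (k + 1) + 1) = 9 * 3 ^ (2 * k + 1) := by ring
    rw [e]
    omega

lemma p5_not_five {q : ℕ} (hq : q % 5 = 3 ∨ q % 5 = 2) : ¬ 5 ∣ q ^ 3 * (q ^ 3 + 1) * (q - 1) := by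
  intro h
  have h5 : Nat.Prime 5 := by norm_num
  rcases (Nat.Prime.dvd_mul h5).1 h with h | h
  · rcases (Nat.Prime.dvd_mul h5).1 h with h | h
    · have := Nat.Prime.dvd_of_dvd_pow h5 h
      omega
    · have h1 : (q ^ 3 + 1) % 5 = 0 := Nat.mod_eq_zero_of_dvd h
      rcases hq with hq | hq
      · rw [Nat.add_mod, Nat.pow_mod, hq] at h1; norm_num at h1
      · rw [Nat.add_mod, Nat.pow_mod, hq] at h1; norm_num at h1
  · omega

lemma p5_self_mem {G : Type*} [Group G] (u : G) :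
    u ∈ Subgroup.centralizer ({u} : Set G) := Subgroup.mem_centralizer_singleton_iff.2 rfl

namespace ReeFull

variable {G : Type*} [Group G] {K : Type*} [Field K] (D : ReeFull G K)

theorem p5_hQ : D.q ^ 2 - D.q + 1 + D.q = D.q ^ 2 + 1 := by
  have : D.q ≤ D.q ^ 2 := by nlinarith [D.q_ge]
  omega

theorem p5_card_G : Nat.card G = D.q ^ 3 * (D.q + 1) * (D.q - 1) * (D.q ^ 2 - D.q + 1) := by
  rw [D.card_G]
  have hQ := D.p5_hQ
  generalize D.q ^ 2 - D.q + 1 = Q at hQ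
  have : D.q ^ 3 + 1 = (D.q + 1) * Q := by nlinarith
  rw [this]; ring

include D in
theorem p5_not_five_dvd : ¬ 5 ∣ Nat.card G := by
  rw [D.card_G]
  exact p5_not_five (p5_q_mod_five D.m)

theorem p5_conj {t : G} (x : G) (ht : D.IsPi t) : D.IsPi (x * t * x⁻¹) :=
  ⟨conj_ne_one ht.1, by rw [conj_pow, ht.2]; group⟩

theorem p5_XU_subset {u : G} (hu : D.IsPi u) :
    XU (Subgroup.centralizer ({u} : Set G)) ⊆ {g : G | D.IsPi g} := by
  rintro y ⟨x, t, ht, ht1, rfl⟩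
  exact D.p5_conj x (D.pi_cent hu (Subgroup.mem_centralizer_singleton_iff.1 ht) ht1)

variable (ρ : G →* GL (Fin 7) K) (hρ : Function.Injective ρ)
include ρ hρ

theorem p5_tor_data {u : G} (hu : D.IsPi u) :
    ∃ a b d f : ℕ, Nat.card (Subgroup.centralizer ({u} : Set G)) = a ∧
      a * b = D.q ^ 2 - D.q + 1 ∧ d + b = D.q ^ 2 - D.q + 1 ∧
      7 * b ≤ D.q ^ 2 - D.q + 1 ∧ (f = 12 ∨ f = 6 ∨ f = 4 ∨ f = 3 ∨ f = 2) ∧
      Nat.card (Subgroup.normalizer ((Subgroup.centralizer ({u} : Set G) : Subgroup G) : Set G)) * f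
        = 12 * a ∧
      12 * (XU (Subgroup.centralizer ({u} : Set G))).ncard =
        D.q ^ 3 * (D.q + 1) * (D.q - 1) * (f * d) := by
  have := D.finite_G
  obtain ⟨b, hb⟩ := D.pi_card_dvd hu
  have h1 : Nat.card (Subgroup.centralizer ({u} : Set G)) ≠ 1 := by
    intro h
    have h2 := Subgroup.eq_bot_of_card_eq _ h
    have h3 := p5_self_mem u
    rw [h2] at h3
    exact hu.1 (Subgroup.mem_bot.1 h3)
  have h7 := D.seven_le_of_dvd (D.pi_card_dvd hu) h1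
  have hle := D.pi_normalizer_le ρ hρ hu
  have hcount := card_conj_union _
    (fun t ht ht1 x hx => (D.pi_isTor ρ hρ hu).mem_normalizer ht ht1 hx)
  obtain ⟨e, he⟩ := Subgroup.card_dvd_of_le (Subgroup.le_normalizer
    (H := Subgroup.centralizer ({u} : Set G)))
  have h5 : ¬ 5 ∣ Nat.card (Subgroup.normalizer ((Subgroup.centralizer ({u} : Set G) :
        Subgroup G) : Set G)) :=
    fun h => D.p5_not_five_dvd (h.trans (Subgroup.card_subgroup_dvd_card _))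
  have hpos : 0 < Nat.card (Subgroup.normalizer ((Subgroup.centralizer ({u} : Set G) :
        Subgroup G) : Set G)) := Nat.card_pos
  rw [D.p5_card_G] at hcount
  generalize Nat.card (Subgroup.normalizer ((Subgroup.centralizer ({u} : Set G) :
        Subgroup G) : Set G)) = n at *
  generalize Nat.card (Subgroup.centralizer ({u} : Set G)) = a at *
  generalize (XU (Subgroup.centralizer ({u} : Set G))).ncard = x at *
  generalize D.q ^ 2 - D.q + 1 = Q at *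
  generalize D.q ^ 3 * (D.q + 1) * (D.q - 1) = C at *
  subst he
  have ha : 0 < a := by omega
  have he6 : e ≤ 6 := by
    apply Nat.le_of_mul_le_mul_left _ ha
    linarith
  have he0 : e ≠ 0 := by rintro rfl; simp at hpos
  have he5 : e ≠ 5 := by rintro rfl; exact h5 (Dvd.intro_left _ rfl)
  obtain ⟨a', rfl⟩ := Nat.exists_eq_add_of_le' (show 1 ≤ a by omega)
  rw [Nat.add_sub_cancel] at hcount
  have hxe : x * e = C * (b * a') := by
    apply Nat.eq_of_mul_eq_mul_left ha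
    calc (a' + 1) * (x * e) = x * ((a' + 1) * e) := by ring
      _ = C * Q * a' := hcount
      _ = _ := by rw [hb]; ring
  have hf' : ∃ f, (f = 12 ∨ f = 6 ∨ f = 4 ∨ f = 3 ∨ f = 2) ∧ e * f = 12 := by
    interval_cases e
    · exact absurd rfl he0
    · exact ⟨12, by simp, rfl⟩
    · exact ⟨6, by simp, rfl⟩
    · exact ⟨4, by simp, rfl⟩
    · exact ⟨3, by simp, rfl⟩
    · exact absurd rfl he5
    · exact ⟨2, by simp, rfl⟩
  obtain ⟨f, hf1, hf2⟩ := hf'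
  refine ⟨a' + 1, b, b * a', f, rfl, hb.symm, by rw [hb]; ring, by rw [hb]; nlinarith, hf1, ?_, ?_⟩
  · calc (a' + 1) * e * f = (a' + 1) * (e * f) := by ring
      _ = _ := by rw [hf2]; ring
  · calc 12 * x = (x * e) * f := by rw [← hf2]; ring
      _ = _ := by rw [hxe]; ring

theorem tori_main : ∃ u₁ u₂ : G, D.IsPi u₁ ∧ D.IsPi u₂ ∧
    Nat.card (Subgroup.centralizer ({u₁} : Set G)) = D.q + D.r + 1 ∧
    Nat.card (Subgroup.centralizer ({u₂} : Set G)) = D.q - D.r + 1 ∧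
    Nat.card (Subgroup.normalizer ((Subgroup.centralizer ({u₁} : Set G) : Subgroup G) : Set G)) =
      6 * (D.q + D.r + 1) ∧
    Nat.card (Subgroup.normalizer ((Subgroup.centralizer ({u₂} : Set G) : Subgroup G) : Set G)) =
      6 * (D.q - D.r + 1) ∧
    {g : G | D.IsPi g} = XU (Subgroup.centralizer ({u₁} : Set G)) ∪ XU (Subgroup.centralizer ({u₂} : Set G)) := by
  classical
  have := D.finite_G
  have hφ := D.card_pi
  have hq := D.q_ge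
  have hQ := D.p5_hQ
  have hfin : ∀ s : Set G, s.Finite := fun s => Set.toFinite s
  have hc : 0 < D.q ^ 3 * (D.q + 1) * (D.q - 1) := by
    apply Nat.mul_pos (by positivity)
    omega
  have h4φ : 12 * {g : G | D.IsPi g}.ncard = D.q ^ 3 * (D.q + 1) * (D.q - 1) *
      (4 * D.q * (D.q - 2)) := by
    have e : D.q ^ 2 - 1 = (D.q + 1) * (D.q - 1) := by
      obtain ⟨p, hp⟩ := Nat.exists_eq_add_of_le' (show 1 ≤ D.q by omega)
      rw [hp, Nat.add_sub_cancel]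
      have : (p + 1) ^ 2 = (p + 1 + 1) * p + 1 := by ring
      omega
    calc 12 * {g : G | D.IsPi g}.ncard = 4 * (3 * {g : G | D.IsPi g}.ncard) := by ring
      _ = _ := by rw [hφ, e]; ring
  have hne : {g : G | D.IsPi g}.Nonempty := by
    by_contra h
    rw [Set.not_nonempty_iff_eq_empty] at h
    rw [h, Set.ncard_empty, mul_zero] at h4φ
    have : 0 < 4 * D.q * (D.q - 2) := by
      apply Nat.mul_pos (by positivity)
      omega
    exact (Nat.mul_pos hc this).ne h4φ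
  obtain ⟨u₁, h₁⟩ := hne
  obtain ⟨a₁, b₁, d₁, f₁, ha₁, hab₁, hdb₁, h7₁, hf₁, hn₁, hx₁⟩ := D.p5_tor_data ρ hρ h₁
  have hsub₁ := D.p5_XU_subset h₁
  have hne₁ : XU (Subgroup.centralizer ({u₁} : Set G)) ≠ {g : G | D.IsPi g} := by
    intro e
    rw [e] at hx₁
    exact p5_arith_one hq hQ hab₁ hdb₁ h7₁ hf₁ (Nat.eq_of_mul_eq_mul_left hc (hx₁.symm.trans h4φ))
  obtain ⟨u₂, h₂, hu₂⟩ : ∃ u₂ ∈ {g : G | D.IsPi g},
      u₂ ∉ XU (Subgroup.centralizer ({u₁} : Set G)) := by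
    by_contra h
    push Not at h
    exact hne₁ (Set.Subset.antisymm hsub₁ h)
  obtain ⟨a₂, b₂, d₂, f₂, ha₂, hab₂, hdb₂, h7₂, hf₂, hn₂, hx₂⟩ := D.p5_tor_data ρ hρ h₂
  have hsub₂ := D.p5_XU_subset h₂
  have t₁ := D.pi_isTor ρ hρ h₁
  have t₂ := D.pi_isTor ρ hρ h₂
  have hdis := XU_disjoint t₁ t₂ (p5_self_mem u₂) h₂.1 hu₂
  have hcover : XU (Subgroup.centralizer ({u₁} : Set G)) ∪
      XU (Subgroup.centralizer ({u₂} : Set G)) = {g : G | D.IsPi g} := by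
    by_contra hne
    obtain ⟨u₃, h₃, hu₃⟩ : ∃ u₃ ∈ {g : G | D.IsPi g},
        u₃ ∉ XU (Subgroup.centralizer ({u₁} : Set G)) ∪
          XU (Subgroup.centralizer ({u₂} : Set G)) := by
      by_contra h
      push Not at h
      exact hne (Set.Subset.antisymm (Set.union_subset hsub₁ hsub₂) h)
    obtain ⟨a₃, b₃, d₃, f₃, ha₃, hab₃, hdb₃, h7₃, hf₃, hn₃, hx₃⟩ := D.p5_tor_data ρ hρ h₃
    have hsub₃ := D.p5_XU_subset h₃
    have t₃ := D.pi_isTor ρ hρ h₃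
    have d13 := XU_disjoint t₁ t₃ (p5_self_mem u₃) h₃.1 (fun h => hu₃ (Or.inl h))
    have d23 := XU_disjoint t₂ t₃ (p5_self_mem u₃) h₃.1 (fun h => hu₃ (Or.inr h))
    have hle := Set.ncard_le_ncard (Set.union_subset (Set.union_subset hsub₁ hsub₂) hsub₃) (hfin _)
    rw [Set.ncard_union_eq (Set.disjoint_union_left.2 ⟨d13, d23⟩) (hfin _) (hfin _),
      Set.ncard_union_eq hdis (hfin _) (hfin _)] at hle
    apply p5_arith_three hq hQ hdb₁ h7₁ hf₁ hdb₂ h7₂ hf₂ hdb₃ h7₃ hf₃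
    apply Nat.le_of_mul_le_mul_left _ hc
    rw [← h4φ, mul_add, mul_add, ← hx₁, ← hx₂, ← hx₃]
    omega
  have hsum : f₁ * d₁ + f₂ * d₂ = 4 * D.q * (D.q - 2) := by
    apply Nat.eq_of_mul_eq_mul_left hc
    rw [← h4φ, mul_add, ← hx₁, ← hx₂, ← hcover, Set.ncard_union_eq hdis (hfin _) (hfin _)]
    ring
  obtain ⟨rfl, rfl⟩ := p5_arith_two hq hQ hdb₁ h7₁ hf₁ hdb₂ h7₂ hf₂ hsum
  have hb : b₁ + b₂ = 2 * D.q + 2 := by
    generalize D.q ^ 2 - D.q + 1 = Q at *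
    generalize D.q = q at *
    obtain ⟨p, rfl⟩ := Nat.exists_eq_add_of_le' (show 2 ≤ q by omega)
    rw [Nat.add_sub_cancel] at hsum
    nlinarith
  have hcop := D.pi_coprime ρ hρ h₁ h₂ hdis
  rw [ha₁, ha₂] at hcop
  have hodd : ¬ 2 ∣ D.q ^ 2 - D.q + 1 := by
    intro h
    have := D.seven_le_of_dvd h (by norm_num)
    omega
  have h3 : ¬ 3 ∣ D.q ^ 2 - D.q + 1 := by
    intro h
    have := D.seven_le_of_dvd h (by norm_num)
    omega
  have hn₁' : Nat.card (Subgroup.normalizer ((Subgroup.centralizer ({u₁} : Set G) : Subgroup G) :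
      Set G)) = 6 * a₁ := by omega
  have hn₂' : Nat.card (Subgroup.normalizer ((Subgroup.centralizer ({u₂} : Set G) : Subgroup G) :
      Set G)) = 6 * a₂ := by omega
  rcases p5_arith_final hq hQ D.r_sq hab₁ hab₂ hb hcop hodd h3 with ⟨e1, e2⟩ | ⟨e1, e2⟩
  · exact ⟨u₁, u₂, h₁, h₂, ha₁.trans e1, ha₂.trans e2, by rw [hn₁', e1], by rw [hn₂', e2],
      hcover.symm⟩
  · exact ⟨u₂, u₁, h₂, h₁, ha₂.trans e2, ha₁.trans e1, by rw [hn₂', e2], by rw [hn₁', e1],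
      by rw [Set.union_comm]; exact hcover.symm⟩

end ReeFull

end Cfsg.Agent.Lib.Helper8
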