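import Cfsg.Agent.Lib.Helper8.Ree.S0A

/-! REE ladder, rung S0B (helper67). -/

set_option autoImplicit false

namespace Cfsg.Agent.Lib.Helper8

open Cfsg.Agent.Lib.Helper46 Matrix

namespace ReeFull

variable {G : Type*} [Group G] {K : Type*} [Field K] (D : ReeFull G K)

theorem s0b_comm {s t : SpecialLinearGroup (Fin 2) K} (h : D.φ s * D.φ t = D.φ t * D.φ s) :
    s * t = t * s ∨ s * t = negOne * (t * s) := by
  have h1 : D.φ (s * t * (t * s)⁻¹) = 1 := by
    rw [map_mul, map_inv, map_mul, map_mul, h, mul_inv_cancel]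
  rcases D.φ_eq_one_iff.1 h1 with h2 | h2
  · left
    exact mul_inv_eq_one.1 h2
  · right
    exact mul_inv_eq_iff_eq_mul.1 h2

theorem s0b_scalar {s t : SpecialLinearGroup (Fin 2) K} (e : K) (he : e * e = 1)
    (h00 : (s : Matrix (Fin 2) (Fin 2) K) 0 0 = e * (t : Matrix (Fin 2) (Fin 2) K) 0 0)
    (h01 : (s : Matrix (Fin 2) (Fin 2) K) 0 1 = e * (t : Matrix (Fin 2) (Fin 2) K) 0 1)
    (h10 : (s : Matrix (Fin 2) (Fin 2) K) 1 0 = e * (t : Matrix (Fin 2) (Fin 2) K) 1 0)
    (h11 : (s : Matrix (Fin 2) (Fin 2) K) 1 1 = e * (t : Matrix (Fin 2) (Fin 2) K) 1 1) :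
    D.φ s = D.φ t := by
  rcases mul_self_eq_one_iff.1 he with rfl | rfl
  · congr 1
    apply ext2
    · rw [h00, one_mul]
    · rw [h01, one_mul]
    · rw [h10, one_mul]
    · rw [h11, one_mul]
  · have : s = negOne * t := by
      apply ext2
      · rw [h00, mul_00]; simp [negOne]
      · rw [h01, mul_01]; simp [negOne]
      · rw [h10, mul_10]; simp [negOne]
      · rw [h11, mul_11]; simp [negOne]
    rw [this, map_mul, D.pk4_φ_negOne, one_mul]

theorem s0b_main {s : SpecialLinearGroup (Fin 2) K} (hn : D.φ s * D.n = D.n * D.φ s)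
    (hv : D.φ s * D.v = D.v * D.φ s) :
    D.φ s = 1 ∨ D.φ s = D.n ∨ D.φ s = D.v ∨ D.φ s = D.n * D.v := by
  have h3 := D.three
  have h2 := D.two_ne_zero'
  have hdet := det2 s
  rw [← D.φ_ww] at hn
  unfold v at hv
  have hW := D.s0b_comm hn
  have hS := D.s0b_comm hv
  set a := (s : Matrix (Fin 2) (Fin 2) K) 0 0 with ha
  set b := (s : Matrix (Fin 2) (Fin 2) K) 0 1 with hb
  set c := (s : Matrix (Fin 2) (Fin 2) K) 1 0 with hc
  set d := (s : Matrix (Fin 2) (Fin 2) K) 1 1 with hd
  rcases hW with hW | hW <;> rcases hS with hS | hS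
  · left
    have w00 := congrArg (fun Z : SpecialLinearGroup (Fin 2) K => (Z : Matrix (Fin 2) (Fin 2) K) 0 0) hW
    have w01 := congrArg (fun Z : SpecialLinearGroup (Fin 2) K => (Z : Matrix (Fin 2) (Fin 2) K) 0 1) hW
    have s00 := congrArg (fun Z : SpecialLinearGroup (Fin 2) K => (Z : Matrix (Fin 2) (Fin 2) K) 0 0) hS
    simp only [mul_00, mul_01, mul_10, mul_11, sS, ww, negOne, mk2_00, mk2_01, mk2_10, mk2_11,
      ← ha, ← hb, ← hc, ← hd] at w00 w01 s00
    have hb0 : b = 0 := by
      have : 2 * b = 0 := by linear_combination s00 - w00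
      exact (mul_eq_zero.1 this).resolve_left h2
    have hc0 : c = 0 := by linear_combination hb0 - s00
    have hda : d = a := by linear_combination (-1 : K) * w01
    rw [← map_one D.φ]
    apply D.s0b_scalar a
    · rw [hb0, hda] at hdet
      linear_combination hdet
    · rw [← ha, one_00, mul_one]
    · rw [← hb, one_01, mul_zero, hb0]
    · rw [← hc, one_10, mul_zero, hc0]
    · rw [← hd, one_11, mul_one, hda]
  · right; left
    have w00 := congrArg (fun Z : SpecialLinearGroup (Fin 2) K => (Z : Matrix (Fin 2) (Fin 2) K) 0 0) hW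
    have w01 := congrArg (fun Z : SpecialLinearGroup (Fin 2) K => (Z : Matrix (Fin 2) (Fin 2) K) 0 1) hW
    have s01 := congrArg (fun Z : SpecialLinearGroup (Fin 2) K => (Z : Matrix (Fin 2) (Fin 2) K) 0 1) hS
    simp only [mul_00, mul_01, mul_10, mul_11, sS, ww, negOne, mk2_00, mk2_01, mk2_10, mk2_11,
      ← ha, ← hb, ← hc, ← hd] at w00 w01 s01
    have ha0 : a = 0 := by
      have : 2 * a = 0 := by linear_combination s01 + w01
      exact (mul_eq_zero.1 this).resolve_left h2
    have hd0 : d = 0 := by linear_combination ha0 - w01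
    have hcb : c = -b := by linear_combination (-1 : K) * w00
    rw [← D.φ_ww]
    apply D.s0b_scalar b
    · rw [ha0, hcb] at hdet
      linear_combination hdet
    · rw [← ha, ha0]; simp [ww]
    · rw [← hb]; simp [ww]
    · rw [← hc, hcb]; simp [ww]
    · rw [← hd, hd0]; simp [ww]
  · right; right; left
    have w00 := congrArg (fun Z : SpecialLinearGroup (Fin 2) K => (Z : Matrix (Fin 2) (Fin 2) K) 0 0) hW
    have w01 := congrArg (fun Z : SpecialLinearGroup (Fin 2) K => (Z : Matrix (Fin 2) (Fin 2) K) 0 1) hW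
    have s01 := congrArg (fun Z : SpecialLinearGroup (Fin 2) K => (Z : Matrix (Fin 2) (Fin 2) K) 0 1) hS
    simp only [mul_00, mul_01, mul_10, mul_11, sS, ww, negOne, mk2_00, mk2_01, mk2_10, mk2_11,
      ← ha, ← hb, ← hc, ← hd] at w00 w01 s01
    have hda : d = -a := by linear_combination w01
    have hcb : c = b := by linear_combination w00
    have hba : b = a := by
      have : 2 * (b - a) = 0 := by linear_combination (-1 : K) * s01 - hda
      have := (mul_eq_zero.1 this).resolve_left h2
      linear_combination this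
    unfold v
    apply D.s0b_scalar a
    · rw [hda, hcb, hba] at hdet
      linear_combination hdet + a * a * h3
    · rw [← ha]; simp [sS]
    · rw [← hb, hba]; simp [sS]
    · rw [← hc, hcb, hba]; simp [sS]
    · rw [← hd, hda]; simp [sS]
  · right; right; right
    have w00 := congrArg (fun Z : SpecialLinearGroup (Fin 2) K => (Z : Matrix (Fin 2) (Fin 2) K) 0 0) hW
    have w01 := congrArg (fun Z : SpecialLinearGroup (Fin 2) K => (Z : Matrix (Fin 2) (Fin 2) K) 0 1) hW
    have s00 := congrArg (fun Z : SpecialLinearGroup (Fin 2) K => (Z : Matrix (Fin 2) (Fin 2) K) 0 0) hS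
    simp only [mul_00, mul_01, mul_10, mul_11, sS, ww, negOne, mk2_00, mk2_01, mk2_10, mk2_11,
      ← ha, ← hb, ← hc, ← hd] at w00 w01 s00
    have hda : d = -a := by linear_combination w01
    have hcb : c = b := by linear_combination w00
    have hab : a = -b := by
      have : 2 * (a + b) = 0 := by linear_combination s00 - hcb
      have := (mul_eq_zero.1 this).resolve_left h2
      linear_combination this
    unfold v
    rw [← D.φ_ww, ← map_mul]
    apply D.s0b_scalar (-b)
    · rw [hda, hcb, hab] at hdet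
      linear_combination hdet + b * b * h3
    · rw [← ha, hab, mul_00]; simp [sS, ww]
    · rw [← hb, mul_01]; simp [sS, ww]
    · rw [← hc, hcb, mul_10]; simp [sS, ww]
    · rw [← hd, hda, hab, mul_11]; simp [sS, ww]

theorem s0b_comm_S0 {x y : G} (hx : x ∈ D.S0) (hy : y ∈ D.S0) : x * y = y * x := by
  have h1 := D.S0_sq (mul_mem hx hy)
  have h2 := D.S0_sq hx
  have h3 := D.S0_sq hy
  have h4 : x⁻¹ = x := inv_eq_of_mul_eq_one_left h2
  have h5 : y⁻¹ = y := inv_eq_of_mul_eq_one_left h3
  have h6 : (x * y)⁻¹ = x * y := inv_eq_of_mul_eq_one_left h1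
  rw [← h6, _root_.mul_inv_rev, h4, h5]

/-! ### rung S0B -/
theorem cent_S0 : Subgroup.centralizer (D.S0 : Set G) = D.S0 := by
  apply le_antisymm
  · intro g hg
    rw [Subgroup.mem_centralizer_iff] at hg
    have hj : D.j ∈ D.S0 := D.mem_S0.2 (by tauto)
    have hn : D.n ∈ D.S0 := D.mem_S0.2 (by tauto)
    have hv : D.v ∈ D.S0 := D.mem_S0.2 (by tauto)
    have gj := hg _ hj
    have gn := hg _ hn
    have gv := hg _ hv
    obtain ⟨s, hs⟩ := D.cent_j_eq gj.symm
    have key : D.φ s * D.n = D.n * D.φ s ∧ D.φ s * D.v = D.v * D.φ s := by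
      rcases hs with rfl | rfl
      · exact ⟨gn.symm, gv.symm⟩
      · constructor
        · apply mul_left_cancel (a := D.j)
          rw [← mul_assoc, ← gn, ← mul_assoc, ← mul_assoc, D.n_j]
        · apply mul_left_cancel (a := D.j)
          rw [← mul_assoc, ← gv, ← mul_assoc, ← mul_assoc, D.j_v]
    have h4 := D.s0b_main key.1 key.2
    rw [D.mem_S0]
    rcases hs with rfl | rfl
    · rcases h4 with h | h | h | h <;> rw [h] <;> tauto
    · rcases h4 with h | h | h | h <;> rw [h]
      · rw [mul_one]; tauto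
      · tauto
      · tauto
      · tauto
  · intro g hg
    rw [Subgroup.mem_centralizer_iff]
    intro h hh
    exact D.s0b_comm_S0 hh hg

end ReeFull

end Cfsg.Agent.Lib.Helper8
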