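import Cfsg.Agent.Lib.Helper8.Ree.S0B

/-! REE ladder, rung S0C (helper67). -/

set_option autoImplicit false

namespace Cfsg.Agent.Lib.Helper8

open Cfsg.Agent.Lib.Helper46 Matrix

namespace ReeFull

variable {G : Type*} [Group G] {K : Type*} [Field K] (D : ReeFull G K)

include D in
theorem s0c_fact : (Nat.card G).factorization 2 = 3 := by
  rw [D.card_G_eq]
  obtain ⟨k, hk⟩ := D.odd_part
  set m := D.q ^ 3 * ((D.q - 1) / 2) * ((D.q + 1) / 4) * (D.q ^ 2 - D.q + 1) with hm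
  have hm0 : m ≠ 0 := by omega
  rw [Nat.factorization_mul (by norm_num) hm0, Finsupp.add_apply,
    Nat.factorization_eq_zero_of_not_dvd (n := m) (p := 2) (by omega), add_zero]
  have : (8 : ℕ) = 2 ^ 3 := by norm_num
  rw [this, Nat.Prime.factorization_pow Nat.prime_two]
  simp

/-- `S0` as a Sylow subgroup. -/
noncomputable def s0c_P : Sylow 2 G :=
  haveI := D.finite_G
  haveI : Fact (Nat.Prime 2) := ⟨Nat.prime_two⟩
  Sylow.ofCard D.S0 (by rw [D.card_S0, D.s0c_fact]; norm_num)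

theorem s0c_P_coe : (D.s0c_P : Subgroup G) = D.S0 := by
  rfl

/-! ### rung S0C (Sylow + helper42's TR) -/
theorem sylow_conj_S0 (S : Sylow 2 G) : ∃ g : G, (S : Subgroup G) = D.S0.map (MulAut.conj g).toMonoidHom := by
  haveI := D.finite_G
  haveI : Fact (Nat.Prime 2) := ⟨Nat.prime_two⟩
  obtain ⟨g, hg⟩ := MulAction.exists_smul_eq G D.s0c_P S
  refine ⟨g, ?_⟩
  rw [← hg, Sylow.coe_subgroup_smul, D.s0c_P_coe]
  rfl

theorem S0_trans {a b : G} (ha : a ∈ D.S0) (hb : b ∈ D.S0) (ha1 : a ≠ 1) (hb1 : b ≠ 1) :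
    ∃ g ∈ Subgroup.normalizer (D.S0 : Set G), g * a * g⁻¹ = b := by
  haveI := D.finite_G
  have h := Cfsg.Agent.Lib.Helper42.Ree.TR D.perfect D.s0c_P
    (by
      have : Nat.card (D.s0c_P : Subgroup G) = 8 := by rw [D.s0c_P_coe]; exact D.card_S0
      exact this)
    (by
      intro x hx
      have hx' : x ∈ (D.s0c_P : Subgroup G) := hx
      rw [D.s0c_P_coe] at hx'
      exact D.S0_sq hx')
    a (by show a ∈ (D.s0c_P : Subgroup G); rw [D.s0c_P_coe]; exact ha)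
    b (by show b ∈ (D.s0c_P : Subgroup G); rw [D.s0c_P_coe]; exact hb) ha1 hb1
  rw [D.s0c_P_coe] at h
  exact h

theorem invol_conj {t : G} (h1 : t ≠ 1) (h2 : t * t = 1) : ∃ g, g * t * g⁻¹ = D.j := by
  haveI := D.finite_G
  haveI : Fact (Nat.Prime 2) := ⟨Nat.prime_two⟩
  have hp : IsPGroup 2 (Subgroup.zpowers t) := by
    rw [IsPGroup.iff_card]
    refine ⟨1, ?_⟩
    rw [Nat.card_zpowers, pow_one]
    exact orderOf_eq_prime (by rw [pow_two]; exact h2) h1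
  obtain ⟨Q, hQ⟩ := hp.exists_le_sylow
  obtain ⟨g, hg⟩ := D.sylow_conj_S0 Q
  have ht : t ∈ (Q : Subgroup G) := hQ (Subgroup.mem_zpowers t)
  rw [hg] at ht
  obtain ⟨s, hs, hst⟩ := ht
  have hst' : g * s * g⁻¹ = t := hst
  have hs1 : s ≠ 1 := by
    rintro rfl
    apply h1
    rw [← hst']
    simp
  obtain ⟨k, -, hk⟩ := D.S0_trans hs (D.mem_S0.2 (by tauto) : D.j ∈ D.S0) hs1 D.j_ne_one
  refine ⟨k * g⁻¹, ?_⟩
  rw [← hk, ← hst']
  group

end ReeFull

end Cfsg.Agent.Lib.Helper8
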