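import Cfsg.Agent.Lib.Helper8.Ree.S0C

/-! REE ladder, rung S0D (helper67). -/

set_option autoImplicit false

namespace Cfsg.Agent.Lib.Helper8

open Cfsg.Agent.Lib.Helper46 Matrix

theorem s0d_orbit {G : Type*} [Group G] (N : Subgroup G) (x : G) :
    Nat.card N = {y | ∃ g ∈ N, g * x * g⁻¹ = y}.ncard *
      Nat.card (N ⊓ Subgroup.centralizer {x} : Subgroup G) := by
  letI : MulAction N G := MulAction.compHom G ((MulAut.conj : G →* MulAut G).comp N.subtype)
  have hsm : ∀ (g : N) (y : G), g • y = (g : G) * y * (g : G)⁻¹ := fun g y => rfl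
  have h1 : MulAction.orbit N x = {y | ∃ g ∈ N, g * x * g⁻¹ = y} := by
    ext y
    constructor
    · rintro ⟨g, rfl⟩
      exact ⟨g, g.2, rfl⟩
    · rintro ⟨g, hg, rfl⟩
      exact ⟨⟨g, hg⟩, rfl⟩
  have h2 : MulAction.stabilizer N x = (N ⊓ Subgroup.centralizer {x} : Subgroup G).subgroupOf N := by
    ext g
    rw [MulAction.mem_stabilizer_iff, hsm, Subgroup.mem_subgroupOf, Subgroup.mem_inf,
      Subgroup.mem_centralizer_singleton_iff]
    constructor
    · intro h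
      exact ⟨g.2, by rw [mul_inv_eq_iff_eq_mul] at h; exact h⟩
    · rintro ⟨-, h⟩
      rw [mul_inv_eq_iff_eq_mul]; exact h
  rw [← h1, ← MulAction.index_stabilizer, h2,
    ← Nat.card_congr (Subgroup.subgroupOfEquivOfLe (inf_le_left : N ⊓ Subgroup.centralizer {x} ≤ N)).toEquiv,
    mul_comm, Subgroup.card_mul_index]

namespace ReeFull

variable {G : Type*} [Group G] {K : Type*} [Field K] (D : ReeFull G K)

theorem s0d_j_mem : D.j ∈ D.S0 := D.mem_S0.2 (by tauto)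
theorem s0d_n_mem : D.n ∈ D.S0 := D.mem_S0.2 (by tauto)
theorem s0d_v_mem : D.v ∈ D.S0 := D.mem_S0.2 (by tauto)

/-- elements of `S0` in the image of `φ`. -/
theorem s0d_range {x : G} (hx : x ∈ D.S0) (s : SpecialLinearGroup (Fin 2) K) (hs : x = D.φ s) :
    x = 1 ∨ x = D.n ∨ x = D.v ∨ x = D.n * D.v := by
  have key : ∀ t : SpecialLinearGroup (Fin 2) K, x ≠ D.j * D.φ t := by
    intro t h
    apply D.φ_ne_j (s * t⁻¹)
    rw [map_mul, map_inv, ← hs, h, mul_inv_cancel_right]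
  rcases D.mem_S0.1 hx with h | h | h | h | h | h | h | h
  · tauto
  · tauto
  · tauto
  · tauto
  · exact absurd (by rw [h, map_one, mul_one]) (key 1)
  · exact absurd (by rw [h, D.φ_ww]) (key ww)
  · exact absurd h (key D.sS)
  · exact absurd (by rw [h, map_mul, D.φ_ww]; rfl) (key (ww * D.sS))

/-- conjugation by an element of `C(j)` preserves the image of `φ`. -/
theorem s0d_conj_range {g : G} (hg : g * D.j = D.j * g) (s : SpecialLinearGroup (Fin 2) K) :
    ∃ t, g * D.φ s * g⁻¹ = D.φ t := by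
  obtain ⟨u, hu⟩ := D.cent_j_eq hg
  refine ⟨u * s * u⁻¹, ?_⟩
  rcases hu with rfl | rfl
  · rw [map_mul, map_mul, map_inv]
  · rw [map_mul, map_mul, map_inv, _root_.mul_inv_rev, D.pk4_j_inv]
    calc D.j * D.φ u * D.φ s * ((D.φ u)⁻¹ * D.j)
        = D.j * (D.φ (u * s * u⁻¹) * D.j) := by rw [map_mul, map_mul, map_inv]; group
      _ = D.j * (D.j * D.φ (u * s * u⁻¹)) := by rw [D.φ_comm_j]
      _ = D.φ u * D.φ s * (D.φ u)⁻¹ := by
        rw [← mul_assoc, D.j_sq, one_mul, map_mul, map_mul, map_inv]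

theorem s0d_stab {g : G} (hg : g ∈ Subgroup.normalizer (D.S0 : Set G)) (hj : g * D.j = D.j * g)
    {x : G} (hx : x ∈ D.S0) (s : SpecialLinearGroup (Fin 2) K) (hs : x = D.φ s) (hx1 : x ≠ 1) :
    g * x * g⁻¹ = D.n ∨ g * x * g⁻¹ = D.v ∨ g * x * g⁻¹ = D.n * D.v := by
  have h1 : g * x * g⁻¹ ∈ D.S0 := (Subgroup.mem_normalizer_iff.1 hg x).1 hx
  obtain ⟨t, ht⟩ := D.s0d_conj_range hj s
  rw [← hs] at ht
  rcases D.s0d_range h1 t ht with h | h | h | h
  · exfalso
    apply hx1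
    have : g * x = g := by rw [mul_inv_eq_one] at h; exact h
    exact mul_eq_left.1 this
  · tauto
  · tauto
  · tauto

theorem s0d_exists_u : ∃ g ∈ Subgroup.normalizer (D.S0 : Set G), g * D.j = D.j * g ∧
    g * D.n * g⁻¹ = D.v ∧ g * D.v * g⁻¹ = D.n * D.v := by
  have hWA : D.sS * ww * D.sS⁻¹ = (ww : SpecialLinearGroup (Fin 2) K)⁻¹ := by
    rw [inv_of_sq_negOne _ pk4_ww_sq, mul_inv_eq_iff_eq_mul, mul_assoc, D.s0a_ww_sS, ← mul_assoc,
      negOne_mul_self, one_mul]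
  obtain ⟨u, hu1, hu2⟩ := exists_q8_normalizer D.two_ne_zero' ww D.sS pk4_ww_sq D.s0a_sS_sq hWA
  have e1 : D.φ u * D.n * (D.φ u)⁻¹ = D.v := by
    rw [← D.φ_ww, ← map_inv, ← map_mul, ← map_mul, hu1]; rfl
  have e2 : D.φ u * D.v * (D.φ u)⁻¹ = D.n * D.v := by
    unfold v
    rw [← map_inv, ← map_mul, ← map_mul, hu2, map_mul, D.φ_ww]
  have e3 : D.φ u * D.j * (D.φ u)⁻¹ = D.j := by
    rw [D.φ_comm_j, mul_inv_cancel_right]
  haveI := D.finite_G
  refine ⟨D.φ u, ?_, D.φ_comm_j u, e1, e2⟩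
  apply mem_normalizer_of_conj_mem
  intro s hs
  obtain ⟨a, b, c, rfl⟩ := D.s0a_form.1 hs
  have : D.φ u * (D.j ^ a * (D.n ^ b * D.v ^ c)) * (D.φ u)⁻¹ =
      (D.φ u * D.j * (D.φ u)⁻¹) ^ a * ((D.φ u * D.n * (D.φ u)⁻¹) ^ b * (D.φ u * D.v * (D.φ u)⁻¹) ^ c) := by
    rw [conj_pow, conj_pow, conj_pow]; group
  rw [this, e1, e2, e3]
  exact mul_mem (pow_mem D.s0d_j_mem _) (mul_mem (pow_mem D.s0d_v_mem _)
    (pow_mem (mul_mem D.s0d_n_mem D.s0d_v_mem) _))

theorem s0d_orb1 : {y | ∃ g ∈ Subgroup.normalizer (D.S0 : Set G), g * D.j * g⁻¹ = y}.ncard = 7 := by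
  have h : {y | ∃ g ∈ Subgroup.normalizer (D.S0 : Set G), g * D.j * g⁻¹ = y} = (D.S0 : Set G) \ {1} := by
    ext y
    constructor
    · rintro ⟨g, hg, rfl⟩
      refine ⟨(Subgroup.mem_normalizer_iff.1 hg _).1 D.s0d_j_mem, ?_⟩
      intro h
      apply D.j_ne_one
      have h' : g * D.j * g⁻¹ = 1 := h
      have : g * D.j = g := by rw [mul_inv_eq_one] at h'; exact h'
      exact mul_eq_left.1 this
    · rintro ⟨hy, hy1⟩
      exact D.S0_trans D.s0d_j_mem hy D.j_ne_one hy1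
  haveI := D.finite_G
  rw [h, Set.ncard_sdiff_singleton_of_mem (one_mem D.S0)]
  have : (D.S0 : Set G).ncard = 8 := by
    rw [← Nat.card_coe_set_eq]; exact D.card_S0
  rw [this]

theorem s0d_n_ne_v : D.n ≠ D.v := by
  intro h
  apply D.s0a_nv_ne
  rw [h, D.v_sq]

theorem s0d_orb2 : {y | ∃ g ∈ (Subgroup.normalizer (D.S0 : Set G) ⊓ Subgroup.centralizer {D.j} : Subgroup G),
    g * D.n * g⁻¹ = y}.ncard = 3 := by
  have h : {y | ∃ g ∈ (Subgroup.normalizer (D.S0 : Set G) ⊓ Subgroup.centralizer {D.j} : Subgroup G),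
      g * D.n * g⁻¹ = y} = {D.n, D.v, D.n * D.v} := by
    ext y
    constructor
    · rintro ⟨g, hg, rfl⟩
      rw [Subgroup.mem_inf, Subgroup.mem_centralizer_singleton_iff] at hg
      have := D.s0d_stab hg.1 hg.2 D.s0d_n_mem ww D.φ_ww.symm D.s0a_n_ne
      simpa using this
    · intro hy
      obtain ⟨g, hg, hgj, e1, e2⟩ := D.s0d_exists_u
      have hg' : g ∈ (Subgroup.normalizer (D.S0 : Set G) ⊓ Subgroup.centralizer {D.j} : Subgroup G) := by
        rw [Subgroup.mem_inf, Subgroup.mem_centralizer_singleton_iff]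
        exact ⟨hg, hgj⟩
      rcases hy with rfl | rfl | rfl
      · exact ⟨1, one_mem _, by simp⟩
      · exact ⟨g, hg', e1⟩
      · refine ⟨g * g, mul_mem hg' hg', ?_⟩
        rw [← e2, ← e1]; group
  rw [h, Set.ncard_eq_three]
  refine ⟨_, _, _, D.s0d_n_ne_v, ?_, ?_, rfl⟩
  · intro h
    exact D.s0a_v_ne (mul_eq_left.1 h.symm)
  · intro h
    exact D.s0a_n_ne (mul_eq_right.1 h.symm)

theorem s0d_stab3 : ((Subgroup.normalizer (D.S0 : Set G) ⊓ Subgroup.centralizer {D.j}) ⊓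
    Subgroup.centralizer {D.n}) ⊓ Subgroup.centralizer {D.v} = D.S0 := by
  apply le_antisymm
  · intro g hg
    simp only [Subgroup.mem_inf, Subgroup.mem_centralizer_singleton_iff] at hg
    obtain ⟨⟨⟨-, h1⟩, h2⟩, h3⟩ := hg
    rw [← D.cent_S0]
    rw [Subgroup.mem_centralizer_iff]
    intro h hh
    obtain ⟨a, b, c, rfl⟩ := D.s0a_form.1 hh
    have c1 : Commute g D.j := h1
    have c2 : Commute g D.n := h2
    have c3 : Commute g D.v := h3
    exact (((c1.pow_right a).mul_right ((c2.pow_right b).mul_right (c3.pow_right c))).eq).symm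
  · intro g hg
    simp only [Subgroup.mem_inf, Subgroup.mem_centralizer_singleton_iff]
    exact ⟨⟨⟨Subgroup.le_normalizer hg, D.s0b_comm_S0 hg D.s0d_j_mem⟩,
      D.s0b_comm_S0 hg D.s0d_n_mem⟩, D.s0b_comm_S0 hg D.s0d_v_mem⟩

/-! ### rung S0D -/
theorem card_normalizer_S0 : Nat.card (Subgroup.normalizer (D.S0 : Set G)) = 168 := by
  haveI := D.finite_G
  rw [s0d_orbit _ D.j, D.s0d_orb1, s0d_orbit _ D.n, D.s0d_orb2]
  have h3 := s0d_orbit ((Subgroup.normalizer (D.S0 : Set G) ⊓ Subgroup.centralizer {D.j}) ⊓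
    Subgroup.centralizer {D.n}) D.v
  rw [D.s0d_stab3, D.card_S0] at h3
  set N2 := ((Subgroup.normalizer (D.S0 : Set G) ⊓ Subgroup.centralizer {D.j}) ⊓
    Subgroup.centralizer {D.n}) with hN2
  set O := {y | ∃ g ∈ N2, g * D.v * g⁻¹ = y} with hO
  have hsub : O ⊆ {D.v, D.n * D.v} := by
    rintro y ⟨g, hg, rfl⟩
    simp only [hN2, Subgroup.mem_inf, Subgroup.mem_centralizer_singleton_iff] at hg
    obtain ⟨⟨h0, h1⟩, h2⟩ := hg
    rcases D.s0d_stab h0 h1 D.s0d_v_mem D.sS rfl D.s0a_v_ne with h | h | h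
    · exfalso
      apply D.s0d_n_ne_v
      have : g * D.v * g⁻¹ = g * D.n * g⁻¹ := by rw [h, h2, mul_inv_cancel_right]
      exact (mul_left_cancel (mul_right_cancel this)).symm
    · left; exact h
    · right; exact h
  have hle : O.ncard ≤ 2 := by
    calc O.ncard ≤ ({D.v, D.n * D.v} : Set G).ncard := Set.ncard_le_ncard hsub (Set.toFinite _)
      _ ≤ 2 := by
        have := Set.ncard_insert_le D.v ({D.n * D.v} : Set G)
        rw [Set.ncard_singleton] at this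
        exact this
  have hpos : 0 < O.ncard := by
    rw [Set.ncard_pos (Set.toFinite _)]
    exact ⟨D.v, 1, one_mem _, by simp⟩
  have hdvd : Nat.card N2 ∣ Nat.card G := Subgroup.card_subgroup_dvd_card N2
  rw [D.card_G_eq] at hdvd
  obtain ⟨k, hk⟩ := D.odd_part
  have h1 : O.ncard = 1 := by
    by_contra hne
    have h2 : O.ncard = 2 := by omega
    rw [h3, h2, hk] at hdvd
    obtain ⟨c, hc⟩ := hdvd
    omega
  rw [h3, h1]

end ReeFull

end Cfsg.Agent.Lib.Helper8
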