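import Cfsg.Agent.Lib.Helper8.Ree.S0D

/-! REE ladder, rung S0E (helper67). -/

set_option autoImplicit false

namespace Cfsg.Agent.Lib.Helper8

open Cfsg.Agent.Lib.Helper46 Matrix

theorem s0e_centralizer_map {G : Type*} [Group G] (H : Subgroup G) (g : G) :
    Subgroup.centralizer ((H.map (MulAut.conj g).toMonoidHom : Subgroup G) : Set G) =
      (Subgroup.centralizer (H : Set G)).map (MulAut.conj g).toMonoidHom := by
  ext x
  rw [Subgroup.mem_centralizer_iff]
  constructor
  · intro h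
    refine ⟨g⁻¹ * x * g, ?_, ?_⟩
    · rw [SetLike.mem_coe, Subgroup.mem_centralizer_iff]
      intro y hy
      have := h (g * y * g⁻¹) ⟨y, hy, rfl⟩
      calc y * (g⁻¹ * x * g) = g⁻¹ * (g * y * g⁻¹ * x) * g := by group
        _ = g⁻¹ * (x * (g * y * g⁻¹)) * g := by rw [this]
        _ = g⁻¹ * x * g * y := by group
    · show g * (g⁻¹ * x * g) * g⁻¹ = x
      group
  · rintro ⟨c, hc, rfl⟩ _ ⟨y, hy, rfl⟩
    rw [SetLike.mem_coe, Subgroup.mem_centralizer_iff] at hc
    have := hc y hy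
    show g * y * g⁻¹ * (g * c * g⁻¹) = g * c * g⁻¹ * (g * y * g⁻¹)
    calc g * y * g⁻¹ * (g * c * g⁻¹) = g * (y * c) * g⁻¹ := by group
      _ = g * (c * y) * g⁻¹ := by rw [this]
      _ = _ := by group

theorem s0e_normalizer_map {G : Type*} [Group G] (H : Subgroup G) (g : G) :
    Subgroup.normalizer ((H.map (MulAut.conj g).toMonoidHom : Subgroup G) : Set G) =
      (Subgroup.normalizer (H : Set G)).map (MulAut.conj g).toMonoidHom := by
  have hmem : ∀ z : G, z ∈ H.map (MulAut.conj g).toMonoidHom ↔ g⁻¹ * z * g ∈ H := by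
    intro z
    constructor
    · rintro ⟨y, hy, rfl⟩
      show g⁻¹ * (g * y * g⁻¹) * g ∈ H
      have : g⁻¹ * (g * y * g⁻¹) * g = y := by group
      rw [this]; exact hy
    · intro h
      exact ⟨_, h, by show g * (g⁻¹ * z * g) * g⁻¹ = z; group⟩
  ext x
  rw [Subgroup.mem_normalizer_iff]
  constructor
  · intro h
    refine ⟨g⁻¹ * x * g, ?_, by show g * (g⁻¹ * x * g) * g⁻¹ = x; group⟩
    rw [SetLike.mem_coe, Subgroup.mem_normalizer_iff]
    intro y
    have := h (g * y * g⁻¹)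
    rw [hmem, hmem] at this
    have e1 : g⁻¹ * (g * y * g⁻¹) * g = y := by group
    have e2 : g⁻¹ * (x * (g * y * g⁻¹) * x⁻¹) * g = g⁻¹ * x * g * y * (g⁻¹ * x * g)⁻¹ := by group
    rw [e1, e2] at this
    exact this
  · rintro ⟨c, hc, rfl⟩ z
    rw [SetLike.mem_coe, Subgroup.mem_normalizer_iff] at hc
    rw [hmem, hmem]
    have := hc (g⁻¹ * z * g)
    have e2 : g⁻¹ * ((MulAut.conj g).toMonoidHom c * z * ((MulAut.conj g).toMonoidHom c)⁻¹) * g =
        c * (g⁻¹ * z * g) * c⁻¹ := by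
      show g⁻¹ * ((g * c * g⁻¹) * z * (g * c * g⁻¹)⁻¹) * g = _
      group
    rw [e2]
    exact this

theorem s0e_card_map {G : Type*} [Group G] (H : Subgroup G) (g : G) :
    Nat.card (H.map (MulAut.conj g).toMonoidHom : Subgroup G) = Nat.card H :=
  Subgroup.card_map_of_injective (MulAut.conj g).injective

namespace ReeFull

variable {G : Type*} [Group G] {K : Type*} [Field K] (D : ReeFull G K)

/-! ### rung S0E (then S1157 is immediate) -/
include D in
theorem sylow2_main (S : Sylow 2 G) : Subgroup.centralizer ((S : Subgroup G) : Set G) = S ∧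
    Nat.card (Subgroup.normalizer ((S : Subgroup G) : Set G)) = 168 ∧ Nat.card S = 8 ∧ ∀ x ∈ S, x * x = 1 := by
  obtain ⟨g, hg⟩ := D.sylow_conj_S0 S
  refine ⟨?_, ?_, ?_, ?_⟩
  · rw [hg, s0e_centralizer_map, D.cent_S0]
  · rw [hg, s0e_normalizer_map, s0e_card_map, D.card_normalizer_S0]
  · have : Nat.card (S : Subgroup G) = 8 := by rw [hg, s0e_card_map, D.card_S0]
    exact this
  · intro x hx
    have hx' : x ∈ (S : Subgroup G) := hx
    rw [hg] at hx'
    obtain ⟨y, hy, rfl⟩ := hx'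
    show g * y * g⁻¹ * (g * y * g⁻¹) = 1
    calc g * y * g⁻¹ * (g * y * g⁻¹) = g * (y * y) * g⁻¹ := by group
      _ = 1 := by rw [D.S0_sq hy]; group

end ReeFull

end Cfsg.Agent.Lib.Helper8
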