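import Cfsg.Agent.Lib.Helper8.Ree.MF

/-! REE ladder, rung TB. -/

set_option autoImplicit false

namespace Cfsg.Agent.Lib.Helper8

open Cfsg.Agent.Lib.Helper46 Matrix

namespace ReeFull

variable {G : Type*} [Group G] {K : Type*} [Field K] (D : ReeFull G K)

/-! ### rung TB -/
theorem type_Bs {g : G} (hg : g ∈ D.Bs) : g ∈ D.Us ∨ (∃ y ∈ D.Us, y * g * y⁻¹ ∈ D.Hs) ∨
    ∃ y ∈ D.Us, ∃ a, a ≠ 0 ∧ y * g * y⁻¹ = D.U 0 a 0 * D.j := by
  obtain ⟨x, hx, z, rfl⟩ := hg
  by_cases hz : (z : K) ^ 2 = 1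
  · rcases pk4_unit_of_sq hz with rfl | rfl
    · left
      rw [map_one, mul_one]
      exact hx
    · obtain ⟨y, hy, a, ha⟩ := D.conj_to_jUL hx
      by_cases ha0 : a = 0
      · right; left
        refine ⟨y, hy, ?_⟩
        have e : y * (x * D.H (-1)) * y⁻¹ = D.j := by
          have := ha
          rw [ha0, D.U_zero, one_mul] at this
          exact this
        rw [e]
        exact ⟨-1, rfl⟩
      · right; right
        exact ⟨y, hy, a, ha0, ha⟩
  · right; left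
    obtain ⟨y, hy, h⟩ := D.conj_to_H hx hz
    exact ⟨y, hy, by rw [h]; exact ⟨z, rfl⟩⟩

end ReeFull

end Cfsg.Agent.Lib.Helper8
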