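import Cfsg.Agent.Lib.Helper8.Ree.MB

/-! REE ladder, rung TJ. -/

set_option autoImplicit false

namespace Cfsg.Agent.Lib.Helper8

open Cfsg.Agent.Lib.Helper46 Matrix

namespace ReeFull

variable {G : Type*} [Group G] {K : Type*} [Field K] (D : ReeFull G K)

/-! ### rung TJ -/

theorem tj_tri (s : SpecialLinearGroup (Fin 2) K) (a : K) (ha : a ^ 2 - tr s * a + 1 = 0) :
    ∃ P : SpecialLinearGroup (Fin 2) K,
      ((P * s * P⁻¹ : SpecialLinearGroup (Fin 2) K) : Matrix (Fin 2) (Fin 2) K) 1 0 = 0 := by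
  obtain ⟨v, hv0, hv⟩ := exists_eigenvector_of_root s a ha
  have h0 : (s : Matrix (Fin 2) (Fin 2) K) 0 0 * v 0 + (s : Matrix (Fin 2) (Fin 2) K) 0 1 * v 1
      = a * v 0 := by
    have := congrFun hv 0
    simpa [Matrix.mulVec, dotProduct, Fin.sum_univ_two] using this
  have h1 : (s : Matrix (Fin 2) (Fin 2) K) 1 0 * v 0 + (s : Matrix (Fin 2) (Fin 2) K) 1 1 * v 1
      = a * v 1 := by
    have := congrFun hv 1
    simpa [Matrix.mulVec, dotProduct, Fin.sum_univ_two] using this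
  by_cases hv00 : v 0 = 0
  · have hv1 : v 1 ≠ 0 := by
      intro h
      apply hv0
      ext i
      fin_cases i
      · exact hv00
      · exact h
    refine ⟨(mk2 (v 0) (-(v 1)⁻¹) (v 1) 0 (by field_simp; ring))⁻¹, ?_⟩
    rw [inv_inv, mul_10, mul_10, mul_11, inv_10, inv_11]
    simp only [mk2_00, mk2_01, mk2_10, mk2_11]
    linear_combination (-(v 1)) * h0 + (v 0) * h1
  · refine ⟨(mk2 (v 0) 0 (v 1) (v 0)⁻¹ (by field_simp; ring))⁻¹, ?_⟩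
    rw [inv_inv, mul_10, mul_10, mul_11, inv_10, inv_11]
    simp only [mk2_00, mk2_01, mk2_10, mk2_11]
    linear_combination (-(v 1)) * h0 + (v 0) * h1

theorem tj_phi_tri {s : SpecialLinearGroup (Fin 2) K}
    (hs : (s : Matrix (Fin 2) (Fin 2) K) 1 0 = 0) : D.φ s ∈ D.Bs := by
  rcases pk4_bruhat s with ⟨x, z, rfl⟩ | ⟨x, z, y, rfl⟩
  · obtain ⟨w, hw⟩ := D.φ_dd z
    rw [map_mul, D.φ_uu, hw]
    exact ⟨_, D.U_mem _ _ _, w, rfl⟩
  · exfalso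
    simp [mul_00, mul_01, mul_10, mul_11, uu, dd, ww] at hs

theorem tj_j_mem_Bs : D.j ∈ D.Bs := D.Hs_le_Bs ⟨-1, rfl⟩

theorem type_cent_j {g : G} (hj : g * D.j = D.j * g) : ∃ s : SpecialLinearGroup (Fin 2) K,
    D.φ s * g * (D.φ s)⁻¹ ∈ D.Bs ∨ D.φ s * g * (D.φ s)⁻¹ ∈ D.M := by
  obtain ⟨s0, hs0⟩ := D.cent_j_eq hj
  have e1 : ∀ P, D.φ P * D.φ s0 * (D.φ P)⁻¹ = D.φ (P * s0 * P⁻¹) := by
    intro P
    rw [map_mul, map_mul, map_inv]
  have e2 : ∀ P, D.φ P * (D.j * D.φ s0) * (D.φ P)⁻¹ = D.j * D.φ (P * s0 * P⁻¹) := by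
    intro P
    rw [← e1, ← mul_assoc, D.φ_comm_j]
    group
  by_cases h : ∃ a : K, a ^ 2 - tr s0 * a + 1 = 0
  · obtain ⟨a, ha⟩ := h
    obtain ⟨P, hP⟩ := tj_tri s0 a ha
    refine ⟨P, Or.inl ?_⟩
    rcases hs0 with rfl | rfl
    · rw [e1]
      exact D.tj_phi_tri hP
    · rw [e2]
      exact mul_mem D.tj_j_mem_Bs (D.tj_phi_tri hP)
  · push_neg at h
    obtain ⟨P, hP⟩ := D.X0_conj h
    refine ⟨P, Or.inr ?_⟩
    rw [D.mem_M]
    rcases hs0 with rfl | rfl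
    · exact ⟨_, hP, Or.inl (e1 P)⟩
    · exact ⟨_, hP, Or.inr (e2 P)⟩

end ReeFull

end Cfsg.Agent.Lib.Helper8
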