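import Cfsg.Agent.Lib.Helper8.Ree.HA

/-! REE ladder, rung TY. -/

set_option autoImplicit false

namespace Cfsg.Agent.Lib.Helper8

open Cfsg.Agent.Lib.Helper46 Matrix

namespace ReeFull

variable {G : Type*} [Group G] {K : Type*} [Field K] (D : ReeFull G K)

/-! ### rung TY -/

theorem ty_of_Bs {g x : G} (h : x * g * x⁻¹ ∈ D.Bs) : (∃ x, x * g * x⁻¹ ∈ D.Us) ∨
    (∃ x, x * g * x⁻¹ ∈ D.Hs) ∨ (∃ x a, a ≠ 0 ∧ x * g * x⁻¹ = D.U 0 a 0 * D.j) ∨
    (∃ x, x * g * x⁻¹ ∈ D.M) ∨ D.IsPi g := by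
  have e : ∀ y : G, y * x * g * (y * x)⁻¹ = y * (x * g * x⁻¹) * y⁻¹ := by intro y; group
  rcases D.type_Bs h with h1 | ⟨y, -, h1⟩ | ⟨y, -, a, ha, h1⟩
  · exact Or.inl ⟨x, h1⟩
  · refine Or.inr (Or.inl ⟨y * x, ?_⟩)
    rw [e]; exact h1
  · refine Or.inr (Or.inr (Or.inl ⟨y * x, a, ha, ?_⟩))
    rw [e]; exact h1

theorem ty_cube : D.q ^ 3 + 1 = (D.q + 1) * (D.q ^ 2 - D.q + 1) := by
  obtain ⟨k, hk⟩ : ∃ k, D.q ^ 2 = D.q + k := Nat.exists_eq_add_of_le (Nat.le_self_pow (by norm_num) _)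
  have h1 : D.q ^ 2 - D.q = k := by omega
  rw [h1]
  have : D.q ^ 3 = D.q * D.q ^ 2 := by ring
  rw [this, hk]
  nlinarith [hk]

theorem ty_index_Hs : D.Hs.index = D.q ^ 3 * (D.q ^ 3 + 1) := by
  have h := D.Hs.card_mul_index
  rw [D.card_Hs, D.card_G] at h
  have hq := D.q_ge
  have hpos : 0 < D.q - 1 := by omega
  apply Nat.eq_of_mul_eq_mul_left hpos
  rw [h]; ring

theorem ty_index_M : D.M.index = D.q ^ 3 * (D.q ^ 2 - D.q + 1) * (D.q - 1) := by
  have h := D.M.card_mul_index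
  rw [D.card_M, D.card_G, D.ty_cube] at h
  have hpos : 0 < D.q + 1 := by omega
  apply Nat.eq_of_mul_eq_mul_left hpos
  rw [h]; ring

theorem ty_sq_ne {p : ℕ} (hp : p.Prime) (hp2 : p ≠ 2) {z : G} (hz : orderOf z = p) : z * z ≠ 1 := by
  intro h
  have h1 : orderOf z ∣ 2 := orderOf_dvd_of_pow_eq_one (by rw [pow_two, h])
  rw [hz] at h1
  exact hp2 ((Nat.prime_dvd_prime_iff_eq hp Nat.prime_two).1 h1)

theorem types {g : G} (hg : g ≠ 1) : (∃ x, x * g * x⁻¹ ∈ D.Us) ∨ (∃ x, x * g * x⁻¹ ∈ D.Hs) ∨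
    (∃ x a, a ≠ 0 ∧ x * g * x⁻¹ = D.U 0 a 0 * D.j) ∨ (∃ x, x * g * x⁻¹ ∈ D.M) ∨ D.IsPi g := by
  have := D.finite_G
  have ho : orderOf g ≠ 0 := (orderOf_pos g).ne'
  have key : ∀ p, p ∣ orderOf g → orderOf (g ^ (orderOf g / p)) = p :=
    fun p hp => orderOf_pow_orderOf_div ho hp
  have hcomm : ∀ (x : G) (k : ℕ),
      (x * g * x⁻¹) * (x * g ^ k * x⁻¹) = (x * g ^ k * x⁻¹) * (x * g * x⁻¹) := by
    intro x k
    rw [← conj_pow]
    exact ((Commute.refl (x * g * x⁻¹)).pow_right k).eq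
  have hq8 := D.q_mod_eight
  by_cases h3 : 3 ∣ orderOf g
  · have hc := key 3 h3
    have hc3 : (g ^ (orderOf g / 3)) ^ (3 ^ 1) = 1 := by
      rw [pow_one]
      nth_rewrite 2 [← hc]
      exact pow_orderOf_eq_one _
    have hc1 : g ^ (orderOf g / 3) ≠ 1 := by
      intro h
      rw [h, orderOf_one] at hc
      omega
    obtain ⟨x, hx⟩ := D.three_conj hc3
    have hx1 : x * g ^ (orderOf g / 3) * x⁻¹ ≠ 1 := by
      rw [Ne, conj_eq_one_iff]; exact hc1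
    exact D.ty_of_Bs (D.cent_le_Bs hx hx1 (hcomm x _))
  by_cases h2 : 2 ∣ orderOf g
  · have hc := key 2 h2
    have hc2 : g ^ (orderOf g / 2) * g ^ (orderOf g / 2) = 1 := by
      rw [← pow_two]
      nth_rewrite 2 [← hc]
      exact pow_orderOf_eq_one _
    have hc1 : g ^ (orderOf g / 2) ≠ 1 := by
      intro h
      rw [h, orderOf_one] at hc
      omega
    obtain ⟨x, hx⟩ := D.invol_conj hc1 hc2
    have h4 := hcomm x (orderOf g / 2)
    rw [hx] at h4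
    obtain ⟨s, hs⟩ := D.type_cent_j h4
    have e : D.φ s * x * g * (D.φ s * x)⁻¹ = D.φ s * (x * g * x⁻¹) * (D.φ s)⁻¹ := by group
    rcases hs with hs | hs
    · rw [← e] at hs
      exact D.ty_of_Bs hs
    · rw [← e] at hs
      exact Or.inr (Or.inr (Or.inr (Or.inl ⟨_, hs⟩)))
  by_cases hm : ∃ p, p.Prime ∧ p ∣ orderOf g ∧ p ∣ D.q - 1
  · obtain ⟨p, hp, hpo, hpq⟩ := hm
    have hp2 : p ≠ 2 := by rintro rfl; exact h2 hpo
    have hc := key p hpo
    have hpd : p ∣ (D.q - 1) / 2 := by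
      have e : D.q - 1 = 2 * ((D.q - 1) / 2) := by omega
      rw [e] at hpq
      rcases (Nat.Prime.dvd_mul hp).1 hpq with h | h
      · exact absurd ((Nat.prime_dvd_prime_iff_eq hp Nat.prime_two).1 h) hp2
      · exact h
    have hidx : ¬ p ∣ D.Hs.index := by
      intro h
      rw [D.ty_index_Hs, D.ty_cube] at h
      have h5 : p ∣ 2 * D.q ^ 3 * (D.q + 1) * (D.q ^ 2 - D.q + 1) :=
        h.trans ⟨2, by ring⟩
      exact Nat.not_coprime_of_dvd_of_dvd hp.one_lt hpd h5 D.coprime_minus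
    have hcp : (g ^ (orderOf g / p)) ^ (p ^ 1) = 1 := by
      rw [pow_one]
      nth_rewrite 2 [← hc]
      exact pow_orderOf_eq_one _
    obtain ⟨x, hx⟩ := conj_into D.Hs hp hidx hcp
    have hord : orderOf (x * g ^ (orderOf g / p) * x⁻¹) = p := by
      exact (SemiconjBy.orderOf_eq x (SemiconjBy.conj_mk x _)).symm.trans hc
    have h6 := D.cent_Hs hx (ty_sq_ne hp hp2 hord)
    refine Or.inr (Or.inl ⟨x, ?_⟩)
    rw [← h6, Subgroup.mem_centralizer_singleton_iff]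
    exact hcomm x _
  by_cases hm' : ∃ p, p.Prime ∧ p ∣ orderOf g ∧ p ∣ D.q + 1
  · obtain ⟨p, hp, hpo, hpq⟩ := hm'
    have hp2 : p ≠ 2 := by rintro rfl; exact h2 hpo
    have hc := key p hpo
    have hpd : p ∣ (D.q + 1) / 4 := by
      have e : D.q + 1 = 2 * (2 * ((D.q + 1) / 4)) := by omega
      rw [e] at hpq
      rcases (Nat.Prime.dvd_mul hp).1 hpq with h | h
      · exact absurd ((Nat.prime_dvd_prime_iff_eq hp Nat.prime_two).1 h) hp2
      · rcases (Nat.Prime.dvd_mul hp).1 h with h | h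
        · exact absurd ((Nat.prime_dvd_prime_iff_eq hp Nat.prime_two).1 h) hp2
        · exact h
    have hidx : ¬ p ∣ D.M.index := by
      intro h
      rw [D.ty_index_M] at h
      have h5 : p ∣ 2 * D.q ^ 3 * (D.q - 1) * (D.q ^ 2 - D.q + 1) :=
        h.trans ⟨2, by ring⟩
      exact Nat.not_coprime_of_dvd_of_dvd hp.one_lt hpd h5 D.coprime_plus
    have hcp : (g ^ (orderOf g / p)) ^ (p ^ 1) = 1 := by
      rw [pow_one]
      nth_rewrite 2 [← hc]
      exact pow_orderOf_eq_one _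
    obtain ⟨x, hx⟩ := conj_into D.M hp hidx hcp
    have hord : orderOf (x * g ^ (orderOf g / p) * x⁻¹) = p := by
      exact (SemiconjBy.orderOf_eq x (SemiconjBy.conj_mk x _)).symm.trans hc
    have h6 := D.cent_M hx (ty_sq_ne hp hp2 hord)
    refine Or.inr (Or.inr (Or.inr (Or.inl ⟨x, ?_⟩)))
    rw [← h6, Subgroup.mem_centralizer_singleton_iff]
    exact hcomm x _
  · refine Or.inr (Or.inr (Or.inr (Or.inr ⟨hg, ?_⟩)))
    apply orderOf_dvd_iff_pow_eq_one.1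
    have hd : orderOf g ∣ D.q ^ 3 * (D.q ^ 3 + 1) * (D.q - 1) := by
      rw [← D.card_G]; exact orderOf_dvd_natCard g
    have c3 : Nat.Coprime (orderOf g) (D.q ^ 3) := by
      apply Nat.Coprime.pow_right
      unfold q
      apply Nat.Coprime.pow_right
      exact ((Nat.Prime.coprime_iff_not_dvd Nat.prime_three).2 h3).symm
    have cm : Nat.Coprime (orderOf g) (D.q - 1) :=
      Nat.coprime_of_dvd (fun k hk h1 h2 => hm ⟨k, hk, h1, h2⟩)
    have cp : Nat.Coprime (orderOf g) (D.q + 1) :=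
      Nat.coprime_of_dvd (fun k hk h1 h2 => hm' ⟨k, hk, h1, h2⟩)
    have h7 := cm.dvd_of_dvd_mul_right hd
    have h8 := c3.dvd_of_dvd_mul_left h7
    rw [D.ty_cube] at h8
    exact cp.dvd_of_dvd_mul_left h8

end ReeFull

end Cfsg.Agent.Lib.Helper8
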