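import Cfsg.Agent.Lib.Helper8.Ree.P1
import Cfsg.Agent.Lib.Helper8.ReeTwoGen

/-! REE ladder, rung UA (helper36). -/

set_option autoImplicit false

namespace Cfsg.Agent.Lib.Helper8

open Cfsg.Agent.Lib.Helper46 Matrix

namespace ReeFull

variable {G : Type*} [Group G] {K : Type*} [Field K] (D : ReeFull G K)

theorem ua_cube_eq_one_iff (t u v : K) : D.U t u v ^ 3 = 1 ↔ t = 0 := by
  rw [D.U_cube, ← D.U_zero]
  constructor
  · intro h
    have h1 := (D.U_inj _ _ _ _ _ _ h).2.2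
    by_contra ht
    have hp : D.ψ t ≠ 0 := (map_ne_zero D.ψ).2 ht
    have : t ^ 2 * D.ψ t ≠ 0 := mul_ne_zero (pow_ne_zero _ ht) hp
    exact this (neg_eq_zero.1 h1)
  · rintro rfl
    simp

/-! ### rung UA (the unipotent group; `ReeData.U_cube` is in my Lib/Helper8/ReeTwoGen.lean) -/
theorem card_Us_cube : {t | t ∈ D.Us ∧ t ≠ 1 ∧ t ^ 3 = 1}.ncard = D.q ^ 2 - 1 := by
  have := D.pk1_finite_K
  have hset : {t | t ∈ D.Us ∧ t ≠ 1 ∧ t ^ 3 = 1} =
      (fun p : K × K => D.U 0 p.1 p.2) '' ({(0, 0)}ᶜ : Set (K × K)) := by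
    ext t
    constructor
    · rintro ⟨⟨a, b, c, rfl⟩, h1, h3⟩
      have ha := (D.ua_cube_eq_one_iff a b c).1 h3
      subst ha
      refine ⟨(b, c), ?_, rfl⟩
      intro h
      have h' : (b, c) = ((0 : K), (0 : K)) := h
      obtain ⟨rfl, rfl⟩ := Prod.mk.inj h'
      exact h1 D.U_zero
    · rintro ⟨⟨b, c⟩, hp, rfl⟩
      refine ⟨D.U_mem _ _ _, ?_, (D.ua_cube_eq_one_iff 0 b c).2 rfl⟩
      intro h
      rw [← D.U_zero] at h
      obtain ⟨-, rfl, rfl⟩ := D.U_inj _ _ _ _ _ _ h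
      exact hp rfl
  rw [hset, Set.ncard_image_of_injective]
  · rw [Set.ncard_compl, Set.ncard_singleton, Nat.card_prod, D.pk1_card_K, pow_two]
  · rintro ⟨b, c⟩ ⟨b', c'⟩ h
    obtain ⟨-, h1, h2⟩ := D.U_inj _ _ _ _ _ _ h
    exact Prod.ext h1 h2

theorem Us_pow_nine {t : G} (ht : t ∈ D.Us) : t ^ 9 = 1 := by
  obtain ⟨a, b, c, rfl⟩ := ht
  have : D.U a b c ^ 9 = (D.U a b c ^ 3) ^ 3 := by rw [← pow_mul]
  rw [this, D.U_cube]
  exact (D.ua_cube_eq_one_iff _ _ _).2 rfl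

theorem exists_order_nine : ∃ t ∈ D.Us, orderOf t = 9 := by
  refine ⟨D.U 1 0 0, D.U_mem _ _ _, ?_⟩
  have : Fact (Nat.Prime 3) := ⟨Nat.prime_three⟩
  have h := orderOf_eq_prime_pow (p := 3) (n := 1) (x := D.U 1 0 0)
    (by
      rw [pow_one, D.ua_cube_eq_one_iff]
      exact one_ne_zero)
    (by
      have := D.Us_pow_nine (D.U_mem 1 0 0)
      simpa using this)
  simpa using h

theorem orderOf_UJ {a : K} (ha : a ≠ 0) : orderOf (D.U 0 a 0 * D.j) = 6 := by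
  have : Fact (Nat.Prime 3) := ⟨Nat.prime_three⟩
  have : Fact (Nat.Prime 2) := ⟨Nat.prime_two⟩
  have h3 : orderOf (D.U 0 a 0) = 3 := by
    apply orderOf_eq_prime ((D.ua_cube_eq_one_iff 0 a 0).2 rfl)
    apply D.U_ne_one
    rintro ⟨-, h, -⟩
    exact ha h
  have h2 : orderOf D.j = 2 := by
    apply orderOf_eq_prime _ D.j_ne_one
    rw [pow_two]; exact D.j_sq
  have hc : Commute (D.U 0 a 0) D.j := (D.pk4_j_U a).symm
  rw [hc.orderOf_mul_eq_mul_orderOf_of_coprime (by rw [h3, h2]; norm_num), h3, h2]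

end ReeFull

end Cfsg.Agent.Lib.Helper8
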